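import Cfsg.Agent.H920.Sp8.StY

/-!
# `Sp_8(q)`, `q` odd: a subgroup of order divisible by primitive primes of exponents 8 and 6 is everything
-/

set_option autoImplicit false
set_option linter.unusedSectionVars false

namespace Cfsg.Agent.H920.Sp8

open Cfsg Cfsg.Geo Matrix Module
open Cfsg.Agent.H884.El (PP)
open Cfsg.Agent.H248.Cov
open Cfsg.Agent.H262.El
open Cfsg.Agent.H402.Rg
open scoped MatrixGroups

variable {F : Type} [Field F] [Fintype F] {p f : ℕ}

/-- no proper subgroup contains elements of orders `r8` and `r6` -/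
theorem both_top (hp : p.Prime) (hchar : CharP F p) (hf : 1 ≤ f) (hF : Fintype.card F = p ^ f) (hodd : Odd (Fintype.card F))
    (h24 : ∀ H : Subgroup (GL (Fin 4 ⊕ Fin 4) F), IsMaximalIn (spGL 4 F) H → InSymplecticResidualClass H → Res24 F H)
    {r s : ℕ} (hr : PP p (f * 8) r) (hs : PP p (f * 6) s) {X : Subgroup (GL (Fin 4 ⊕ Fin 4) F)} (hX : X ≤ spGL 4 F)
    (hrX : r ∣ Nat.card X) (hsX : s ∣ Nat.card X) : X = spGL 4 F := by
  by_contra hne
  have hfin : Finite (GL (Fin 4 ⊕ Fin 4) F) := inferInstance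
  have hpf : Fact p.Prime := ⟨hp⟩
  obtain ⟨M, hM, hXM⟩ := exists_max hX hne
  obtain ⟨y, hy, hyr, hy1⟩ := exists_elt hr.prime (hrX.trans (Subgroup.card_dvd_of_le hXM))
  obtain ⟨z, hz, hzs, hz1⟩ := exists_elt hs.prime (hsX.trans (Subgroup.card_dvd_of_le hXM))
  have hos := od_of_pp hF hf (by norm_num) hs
  have hsd := hos.lt
  rcases classA hp hchar hf hF hodd hr h24 hM hy hyr hy1 with ⟨K, hK, hsa, hMK⟩ | ⟨P, hc, ⟨e⟩, -⟩
  · refine Cfsg.Agent.H118.BS.no_quad_odd (hM.1.le hz) (r := s) (j := 3) ?_ (by decide) (by norm_num) hzs hz1 hK hsa (hMK hz)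
    rw [Nat.card_eq_fintype_card, hF]
    exact Cfsg.Agent.H884.El.PP.of_pow hs hf
  · have hzsc : z ∉ scalars (Fin 4 ⊕ Fin 4) F := by
      intro h
      apply hz1
      refine eq_one_of_scalar h hs.prime hzs ?_
      intro h7
      have h9 := (hos.dvd_iff Fintype.card_pos 1).1 (by rwa [pow_one])
      have := Nat.le_of_dvd one_pos h9
      omega
    have h7 : 6 ∣ s - 1 := (Dvd.intro_left f rfl).trans (hs.dvd_sub_one (by omega))
    rcases aut17 hs.prime (dvd_aut hc e hz hs.prime hzs hzsc) with h4 | h4 | h4 <;> omega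

end Cfsg.Agent.H920.Sp8
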