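import Cfsg.Agent.H402.Rg.Sta
import Cfsg.Agent.H402.Rg.QL
import Cfsg.Agent.H918.Transv

/-!
# Frames adapted to a point or a nondegenerate plane
-/

set_option autoImplicit false
set_option linter.unusedSectionVars false

namespace Cfsg.Agent.H920.Sp8

open Cfsg Cfsg.Geo Matrix Module
open Cfsg.Agent.H402.Rg
open Cfsg.Agent.ClassicalGeometry.SympBasic
open scoped MatrixGroups

variable {F : Type} [Field F] [Fintype F] {k m : ℕ}

theorem exists_par_or_sta (hm : m = k + 1) {W : Submodule F (Fin m ⊕ Fin m → F)} (hW0 : W ≠ ⊥) (hW2 : finrank F W ≤ 2)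
    (hW : finrank F W = 1 ∨ IsNondegenerateOn (sympForm m F) W) {Y : Subgroup (GL (Fin m ⊕ Fin m) F)} (hY : Y ≤ spGL m F)
    (hYW : Y ≤ subspaceStabilizer W) : ∃ fr : Fr k m F, fr.Par Y ∨ fr.Sta Y := by
  obtain ⟨u, hu, hu0⟩ := (Submodule.ne_bot_iff _).1 hW0
  have hst : ∀ g ∈ Y, ∀ w ∈ W, (g : Matrix (Fin m ⊕ Fin m) (Fin m ⊕ Fin m) F) *ᵥ w ∈ W := fun g hg w hw =>
    (Cfsg.Agent.H918.mem_subspaceStabilizer.1 (hYW hg) w).1 hw
  rcases hW with hW1 | hnd
  · obtain ⟨fr, hfr⟩ := exists_fr' hm hu0
    refine ⟨fr, Or.inl ⟨hY, fun g hg => ?_⟩⟩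
    have h1 : W = Submodule.span F {u} := by
      symm
      apply Submodule.eq_of_le_of_finrank_le
      · rw [Submodule.span_le, Set.singleton_subset_iff]
        exact hu
      · rw [hW1, finrank_span_singleton hu0]
    have h2 := hst g hg u hu
    rw [h1, Submodule.mem_span_singleton] at h2
    obtain ⟨c, hc⟩ := h2
    exact ⟨c, by rw [hfr, hc]⟩
  · obtain ⟨⟨z, hz, hzu⟩, -⟩ := hnd u hu hu0
    have huz : sympForm m F u z ≠ 0 := by
      rw [sympForm_swap]
      exact neg_ne_zero.2 hzu
    set v := (sympForm m F u z)⁻¹ • z with hv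
    have huv : sympForm m F u v = 1 := by
      rw [hv, sympForm_smul_right, inv_mul_cancel₀ huz]
    have hvW : v ∈ W := W.smul_mem _ hz
    obtain ⟨fr, hfu, hfv⟩ := exists_fr hm huv
    have hli : LinearIndependent F ![u, v] := by
      rw [LinearIndependent.pair_iff]
      intro s t hst
      have h1 : sympForm m F (s • u + t • v) v = 0 := by rw [hst, sympForm_zero_left]
      have h2 : sympForm m F u (s • u + t • v) = 0 := by rw [hst, sympForm_zero_right]
      rw [sympForm_add_left, sympForm_smul_left, sympForm_smul_left, sympForm_self, huv] at h1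
      rw [sympForm_add_right, sympForm_smul_right, sympForm_smul_right, sympForm_self, huv] at h2
      constructor
      · linear_combination h1
      · linear_combination h2
    have h1 : W = Submodule.span F (Set.range ![u, v]) := by
      symm
      apply Submodule.eq_of_le_of_finrank_le
      · rw [Submodule.span_le]
        rintro _ ⟨i, rfl⟩
        fin_cases i
        · exact hu
        · exact hvW
      · rw [finrank_span_eq_card hli]
        simpa using hW2
    have hπ : ∀ w ∈ W, fr.π w = 0 := by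
      intro w hw
      rw [h1, Submodule.mem_span_range_iff_exists_fun] at hw
      obtain ⟨c, hc⟩ := hw
      rw [Fin.sum_univ_two] at hc
      simp only [Matrix.cons_val_zero, Matrix.cons_val_one] at hc
      rw [← hc, ← hfu, ← hfv, map_add, map_smul, map_smul, fr.πu, fr.πv, smul_zero, smul_zero, add_zero]
    refine ⟨fr, Or.inr ⟨hY, fun g hg => ?_⟩⟩
    rw [hfu, hfv]
    exact ⟨hπ _ (hst g hg u hu), hπ _ (hst g hg v hvW)⟩

end Cfsg.Agent.H920.Sp8
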