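import Cfsg.Agent.H402.Rg.Lst3

/-!
# Proper subgroups of `Sp_6(q)`, `q > 9` odd, of order divisible by a primitive prime of exponent 6 (helper402's text)
-/

set_option autoImplicit false
set_option linter.unusedSectionVars false

namespace Cfsg.Agent.H920.Sp8

open Cfsg Cfsg.Geo Matrix Module
open Cfsg.Agent.H884.El (PP)
open Cfsg.Agent.H248.Cov
open Cfsg.Agent.H262.El
open Cfsg.Agent.H109.Cov (L06 order_cases)
open Cfsg.Agent.H402.Rg hiding resid3 list3_six not_dvd_small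
open scoped MatrixGroups

variable {F : Type} [Field F] [Fintype F] {p f : ℕ}

/-- the residual subgroups -/
theorem resid9 (hp : p.Prime) (hf : 1 ≤ f) (hF : Fintype.card F = p ^ f) (hodd : Odd (Fintype.card F))
    (h9 : 9 < Fintype.card F) {H : Subgroup (GL (Fin 3 ⊕ Fin 3) F)} (hH : H ≤ spGL 3 F) (h : L06 H) :
    Nat.card H ≤ 2419200 ∨ Nat.card H ∣ 2 * (f * (p ^ f * ((p ^ f) ^ 2 - 1))) := by
  have hFn : Nat.card F = p ^ f := by rw [Nat.card_eq_fintype_card, hF]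
  by_cases h5 : 5 ≤ p
  · rcases order_cases hp h5 hf hFn hH h with h1 | h1 | ⟨h1, -⟩ | h1 | ⟨h1, -⟩ | h1
    · exact Or.inl ((Nat.le_of_dvd (by norm_num) h1).trans (by norm_num))
    · exact Or.inl ((Nat.le_of_dvd (by norm_num) h1).trans (by norm_num))
    · exact Or.inl ((Nat.le_of_dvd (by norm_num) h1).trans (by norm_num))
    · exact Or.inl ((Nat.le_of_dvd (by norm_num) h1).trans (by norm_num))
    · exact Or.inl (Nat.le_of_dvd (by norm_num) h1)
    · exact Or.inr h1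
  · exfalso
    have hp3 : p = 3 := by
      have h2 := hp.two_le
      have h4 : p ≠ 4 := by rintro rfl; exact absurd hp (by norm_num)
      have h2' : p ≠ 2 := by
        rintro rfl
        rw [hF] at hodd
        exact absurd ((Nat.odd_pow_iff (by omega)).1 hodd) (by decide)
      omega
    subst hp3
    obtain ⟨P, p', hc, hp', hch, h⟩ := h
    have hpp : p' = 3 := Cfsg.Agent.H109.Cov.char_eq hp hFn hp'
    subst hpp
    rcases h with ⟨-, h, -⟩ | ⟨-, ⟨h, -⟩ | ⟨h, -⟩⟩ | ⟨-, ⟨h, -⟩ | ⟨h, -⟩⟩ | ⟨-, h⟩ | ⟨-, h | ⟨h, -⟩⟩ |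
      ⟨-, ⟨h, -⟩ | ⟨h, -⟩⟩ | ⟨-, h⟩ | ⟨-, h, -⟩ <;> omega

theorem not_dvd_small' {r : ℕ} (hp : p.Prime) (hf : 1 ≤ f) {d : ℕ} (hd : 3 ≤ d) (hr : PP p (f * d) r) :
    ¬ r ∣ 2 * (f * (p ^ f * ((p ^ f) ^ 2 - 1))) := by
  intro h
  have hfd : f * 3 ≤ f * d := Nat.mul_le_mul_left _ hd
  have hlt := hr.lt (by omega)
  rcases hr.prime.dvd_mul.1 h with h1 | h1
  · have := Nat.le_of_dvd (by norm_num) h1
    omega
  rcases hr.prime.dvd_mul.1 h1 with h2 | h2
  · have := Nat.le_of_dvd (by omega) h2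
    omega
  rcases hr.prime.dvd_mul.1 h2 with h3 | h3
  · exact hr.not_dvd (by omega) (hr.prime.dvd_of_dvd_pow h3)
  · rw [← pow_mul, hr.dvd_iff hp.one_lt.le] at h3
    have := Nat.le_of_dvd (by omega) h3
    omega

/-- subgroups of order divisible by `r_6` -/
theorem list3_six9 (hp : p.Prime) (hf : 1 ≤ f) (hF : Fintype.card F = p ^ f) (hodd : Odd (Fintype.card F))
    (h9 : 9 < Fintype.card F)
    (h06 : ∀ H : Subgroup (GL (Fin 3 ⊕ Fin 3) F), IsMaximalIn (spGL 3 F) H → InSymplecticResidualClass H → L06 H)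
    {r : ℕ} (hr : PP p (f * 6) r) {X : Subgroup (GL (Fin 3 ⊕ Fin 3) F)} (hX : X ≤ spGL 3 F)
    (hne : X ≠ spGL 3 F) (hrX : r ∣ Nat.card X) :
    InFld 3 3 F X ∨ Nat.card X ∣ 2 * (Fintype.card F ^ 3 * (Fintype.card F + 1) * (Fintype.card F ^ 2 - 1) * (Fintype.card F ^ 3 + 1)) ∨
      Nat.card X ≤ 2419200 := by
  have hfin : Finite (GL (Fin 3 ⊕ Fin 3) F) := inferInstance
  obtain ⟨M, hM, hXM⟩ := exists_max hX hne
  have hdvd : r ∣ Nat.card M := hrX.trans (Subgroup.card_dvd_of_le hXM)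
  have hle : Nat.card X ≤ Nat.card M := Nat.card_le_card_of_injective _ (Subgroup.inclusion_injective hXM)
  obtain ⟨y, hy, hyr, hy1⟩ := exists_elt hr.prime hdvd
  have hι : Fintype.card (Fin 3 ⊕ Fin 3) = 6 := by simp
  have hFn : Nat.card F = p ^ f := by rw [Nat.card_eq_fintype_card, hF]
  have hod := od_of_pp hF hf (by norm_num) hr
  have hrq : PP (Nat.card F) 6 r := by
    rw [hFn]
    exact Cfsg.Agent.H884.El.PP.of_pow hr hf
  have hrd := hod.lt
  have hyS : y ∈ spGL 3 F := hM.1.le hy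
  have hirr : ∀ W : Submodule F (Fin 3 ⊕ Fin 3 → F), M ≤ subspaceStabilizer W → W = ⊥ ∨ W = ⊤ := fun W hW =>
    irr_of_od (by rw [hι]; exact hod) hyr hy1 W (fun v hv =>
      (Cfsg.Agent.H918.mem_subspaceStabilizer.1 (hW hy) v).1 hv)
  have hdec : ∀ (t k : ℕ) (D : Fin t → Submodule F (Fin 3 ⊕ Fin 3 → F)), k < 6 → t < 6 → IsMDecomposition k D →
      ¬ M ≤ decompositionStabilizer D := by
    intro t k D hk ht hD hH
    have := Cfsg.Agent.H884.El.decomp_le hD hH hrq (by omega) hdvd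
    omega
  rcases S5805.result M hM with ⟨W, h1, h2, rfl⟩ | ⟨W, h1, h2, h3, rfl⟩ | ⟨-, D, hD, rfl⟩ | ⟨-, D, hD, -, rfl⟩ |
    ⟨K, h1, h2, h3, rfl⟩ | ⟨-, K, h1, h2, h3, rfl⟩ | ⟨-, -, e, P, f₁, f₂, -, -, -, rfl⟩ | ⟨F₀, s, P, ζ, hs, hcard, -, -, rfl⟩ |
    ⟨h, -⟩ | h
  · exfalso
    rcases hirr W inf_le_left with h | h
    · exact h1 h
    · exact totallySingular_ne_top (by norm_num) h2 h
  · exfalso
    rcases hirr W inf_le_left with h | h
    · exact h1 h
    · rw [h, finrank_top, Module.finrank_fintype_fun_eq_card, hι] at h3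
      omega
  · exact absurd inf_le_left (hdec 3 2 D (by norm_num) (by norm_num) hD.decomp)
  · exact absurd inf_le_left (hdec 2 3 D (by norm_num) (by norm_num) hD)
  · exact Or.inl ⟨K, h1, h2, h3, hXM.trans inf_le_left⟩
  · right; left
    refine (Subgroup.card_dvd_of_le hXM).trans ?_
    rw [Cfsg.Agent.H402.Rg.Gu.card_herm3 (two_ne hodd) h1 h2 h3, Nat.card_eq_fintype_card]
  · exact (Cfsg.Agent.H884.El.kill_tensor e P inf_le_left (by norm_num) (by norm_num) (by rw [hι]) hrq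
      (by rw [hι]; omega) hdvd).elim
  · exact (Cfsg.Agent.H884.El.kill_subfield inf_le_left hs (by rw [Nat.card_eq_fintype_card]; exact hcard) hp hFn hr
      (by rw [hι]; omega) (by omega) hdvd).elim
  · exact absurd hodd h
  · rcases resid9 hp hf hF hodd h9 hM.1.le (h06 M hM h) with h1 | h1
    · exact Or.inr (Or.inr (hle.trans h1))
    · exact absurd (hdvd.trans h1) (not_dvd_small' hp hf (by norm_num) hr)

end Cfsg.Agent.H920.Sp8
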