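import Mathlib

/-!
# S3691, `PSp_8(q)`, `q` odd: numbers
-/

set_option autoImplicit false

namespace Cfsg.Agent.H920.Sp8

theorem cop_succ (n : ℕ) (hn : 1 ≤ n) : Nat.Coprime n (n - 1) := by
  obtain ⟨k, rfl⟩ : ∃ k, n = k + 1 := ⟨n - 1, by omega⟩
  rw [Nat.add_sub_cancel]
  simp

theorem cop_sub {q i : ℕ} (hq : 1 ≤ q) (hi : 1 ≤ i) : Nat.Coprime q (q ^ i - 1) :=
  (cop_succ (q ^ i) (Nat.one_le_pow _ _ hq)).coprime_dvd_left (dvd_pow_self q (by omega))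

theorem cop_add {q i : ℕ} (hi : 1 ≤ i) : Nat.Coprime q (q ^ i + 1) := by
  have h : Nat.Coprime (q ^ i) (q ^ i + 1) := by simp
  exact h.coprime_dvd_left (dvd_pow_self q (by omega))

/-- case `X ≥ Sp_4(q ^ 2)` -/
theorem num_X1 {q X Y e j : ℕ} (hq : 2 ≤ q) (h : X * Y * e = 2 * (q ^ 16 * ((q ^ 2 - 1) * (q ^ 4 - 1) * (q ^ 6 - 1) * (q ^ 8 - 1))))
    (hj : j ∣ 2) (hX : X = j * (q ^ 8 * ((q ^ 4 - 1) * (q ^ 8 - 1)))) :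
    q ^ 8 * ((q ^ 2 - 1) * (q ^ 6 - 1)) ∣ e * Y ∧ e * Y ≤ 2 * (q ^ 8 * ((q ^ 2 - 1) * (q ^ 6 - 1))) := by
  obtain ⟨j', hj'⟩ := hj
  have h4 : 0 < q ^ 4 - 1 := by
    have : 1 < q ^ 4 := Nat.one_lt_pow (by norm_num) (by omega)
    omega
  have h8 : 0 < q ^ 8 - 1 := by
    have : 1 < q ^ 8 := Nat.one_lt_pow (by norm_num) (by omega)
    omega
  have hq0 : 0 < q := by omega
  have hj0 : 0 < j := by
    rcases Nat.eq_zero_or_pos j with h0 | h0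
    · rw [h0, zero_mul] at hj'; omega
    · exact h0
  have e1 : (j * (q ^ 8 * ((q ^ 4 - 1) * (q ^ 8 - 1)))) * (e * Y) =
      (j * (q ^ 8 * ((q ^ 4 - 1) * (q ^ 8 - 1)))) * (j' * (q ^ 8 * ((q ^ 2 - 1) * (q ^ 6 - 1)))) := by
    rw [← hX]
    calc X * (e * Y) = X * Y * e := by ring
      _ = _ := h
      _ = (j * j') * (q ^ 16 * ((q ^ 2 - 1) * (q ^ 4 - 1) * (q ^ 6 - 1) * (q ^ 8 - 1))) := by rw [← hj']
      _ = _ := by rw [hX]; ring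
  have e2 := Nat.eq_of_mul_eq_mul_left (by positivity) e1
  have hj'2 : j' ≤ 2 := Nat.le_of_dvd (by norm_num) ⟨j, by rw [hj']; ring⟩
  rw [e2]
  exact ⟨Dvd.intro_left _ rfl, Nat.mul_le_mul_right _ hj'2⟩

/-- case `X ≤ Sp_2(q ^ 4).4` -/
theorem num_X2 {q X Y e : ℕ} (hq : 2 ≤ q) (h : X * Y * e = 2 * (q ^ 16 * ((q ^ 2 - 1) * (q ^ 4 - 1) * (q ^ 6 - 1) * (q ^ 8 - 1))))
    (hX : X ∣ 4 * (q ^ 4 * (q ^ 8 - 1))) :
    q ^ 12 * ((q ^ 2 - 1) * (q ^ 4 - 1) * (q ^ 6 - 1)) ∣ 2 * (e * Y) := by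
  obtain ⟨j, hj⟩ := hX
  have h8 : 0 < q ^ 8 - 1 := by
    have : 1 < q ^ 8 := Nat.one_lt_pow (by norm_num) (by omega)
    omega
  have e1 : (2 * (q ^ 4 * (q ^ 8 - 1))) * (2 * (e * Y)) =
      (2 * (q ^ 4 * (q ^ 8 - 1))) * (j * (q ^ 12 * ((q ^ 2 - 1) * (q ^ 4 - 1) * (q ^ 6 - 1)))) := by
    calc (2 * (q ^ 4 * (q ^ 8 - 1))) * (2 * (e * Y)) = (4 * (q ^ 4 * (q ^ 8 - 1))) * (e * Y) := by ring
      _ = (X * Y * e) * j := by rw [hj]; ring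
      _ = _ := by rw [h]; ring
  have e2 := Nat.eq_of_mul_eq_mul_left (by positivity) e1
  rw [e2]
  exact Dvd.intro_left _ rfl

/-- `q ^ a` divides `c` -/
theorem pow_dvd_of {q a b c R S : ℕ} (h : q ^ (b + a) * R ∣ c * (q ^ b * S)) (hc : Nat.Coprime q S) (hq : 0 < q) :
    q ^ a ∣ c := by
  have h1 : q ^ b * q ^ a ∣ q ^ b * (c * S) := by
    have h2 : q ^ (b + a) ∣ c * (q ^ b * S) := (Dvd.intro _ rfl).trans h
    rw [pow_add] at h2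
    rwa [mul_left_comm] at h2
  have h2 := Nat.dvd_of_mul_dvd_mul_left (pow_pos hq b) h1
  exact (Nat.Coprime.pow_left a hc).dvd_of_dvd_mul_right h2

/-- `Y ≤ GU_4(q).2` -/
theorem num_herm {q Y e f : ℕ} (hq : 13 ≤ q) (hf : f < q) (he : 0 < e) (he2 : e ≤ 2 * f)
    (h : q ^ 8 * ((q ^ 2 - 1) * (q ^ 6 - 1)) ∣ 2 * (e * Y))
    (hY : Y ∣ 2 * (q ^ 6 * (q + 1) * (q ^ 2 - 1) * (q ^ 3 + 1) * (q ^ 4 - 1))) : False := by
  have h1 : q ^ (6 + 2) * ((q ^ 2 - 1) * (q ^ 6 - 1)) ∣ (4 * e) * (q ^ 6 * ((q + 1) * (q ^ 2 - 1) * (q ^ 3 + 1) * (q ^ 4 - 1))) := by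
    refine h.trans ?_
    obtain ⟨k, hk⟩ := hY
    exact ⟨k, by
      calc (4 * e) * (q ^ 6 * ((q + 1) * (q ^ 2 - 1) * (q ^ 3 + 1) * (q ^ 4 - 1))) =
          2 * (e * (2 * (q ^ 6 * (q + 1) * (q ^ 2 - 1) * (q ^ 3 + 1) * (q ^ 4 - 1)))) := by ring
        _ = 2 * (e * (Y * k)) := by rw [hk]
        _ = 2 * (e * Y) * k := by ring⟩
  have hc : Nat.Coprime q ((q + 1) * (q ^ 2 - 1) * (q ^ 3 + 1) * (q ^ 4 - 1)) := by
    have a1 : Nat.Coprime q (q + 1) := by simp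
    exact ((a1.mul_right (cop_sub (by omega) (by norm_num))).mul_right (cop_add (by norm_num))).mul_right
      (cop_sub (by omega) (by norm_num))
  have h2 := pow_dvd_of h1 hc (by omega)
  have h3 := Nat.le_of_dvd (by omega) h2
  have h4 : 13 * q ≤ q ^ 2 := by rw [sq]; exact Nat.mul_le_mul_right _ hq
  omega

/-- `Y` of type `PSL_2(q ^ 3)` -/
theorem num_res {q Y e f : ℕ} (hq : 13 ≤ q) (hf : f < q) (hf1 : 1 ≤ f) (he : 0 < e) (he2 : e ≤ 2 * f)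
    (h : q ^ 8 * ((q ^ 2 - 1) * (q ^ 6 - 1)) ∣ 2 * (e * Y))
    (hY : Y ∣ 2 * (3 * f * (q ^ 3 * (q ^ 6 - 1)))) : False := by
  have h6 : 0 < q ^ 6 - 1 := by
    have : 1 < q ^ 6 := Nat.one_lt_pow (by norm_num) (by omega)
    omega
  have h1 : q ^ 8 * ((q ^ 2 - 1) * (q ^ 6 - 1)) ∣ 2 * (e * (2 * (3 * f * (q ^ 3 * (q ^ 6 - 1))))) :=
    h.trans (Nat.mul_dvd_mul_left _ (Nat.mul_dvd_mul_left _ hY))
  have h2 := Nat.le_of_dvd (by positivity) h1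
  have h3 : (q ^ 3 * (q ^ 6 - 1)) * (q ^ 5 * (q ^ 2 - 1)) ≤ (q ^ 3 * (q ^ 6 - 1)) * (12 * (e * f)) := by
    calc _ = q ^ 8 * ((q ^ 2 - 1) * (q ^ 6 - 1)) := by ring
      _ ≤ _ := h2
      _ = _ := by ring
  have h4 := Nat.le_of_mul_le_mul_left h3 (by positivity)
  have h5 : e * f ≤ (2 * q) * q := Nat.mul_le_mul (by omega) hf.le
  have h7 : 13 ≤ q ^ 2 - 1 := by
    have : 13 * 13 ≤ q ^ 2 := by rw [sq]; exact Nat.mul_le_mul hq hq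
    omega
  have h8 : q ^ 5 * 13 ≤ q ^ 5 * (q ^ 2 - 1) := Nat.mul_le_mul_left _ h7
  have h9 : q ^ 5 = q ^ 3 * (q * q) := by ring
  have h10 : 13 ^ 3 ≤ q ^ 3 := Nat.pow_le_pow_left hq 3
  have h11 : 13 ^ 3 * (q * q) ≤ q ^ 3 * (q * q) := Nat.mul_le_mul_right _ h10
  have h12 : 0 < q * q := by positivity
  nlinarith

theorem q2_gt {q f c : ℕ} (hq : 13 ≤ q) (hf : f < q) (hc : c ≤ 12 * f) (hc0 : 0 < c) {k : ℕ} (hk : 2 ≤ k) (h : q ^ k ∣ c) : False := by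
  have h3 := Nat.le_of_dvd hc0 h
  have h4 : q ^ 2 ≤ q ^ k := Nat.pow_le_pow_right (by omega) hk
  have h5 : 13 * q ≤ q ^ 2 := by rw [sq]; exact Nat.mul_le_mul_right _ hq
  omega

theorem cop_two {q : ℕ} (hq : 2 ≤ q) : Nat.Coprime q (q - 1) := cop_succ q (by omega)

/-- the image in `SL_2(q ^ 3).3`, nondegenerate plane -/
theorem num_cub_sta {q Y e f R : ℕ} (hq : 13 ≤ q) (hf : f < q) (he : 0 < e) (he2 : e ≤ 2 * f)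
    (h : q ^ 8 * ((q ^ 2 - 1) * (q ^ 6 - 1)) ∣ 2 * (e * Y)) (hY : Y ∣ R * (q * (q ^ 2 - 1)))
    (hR : R ∣ 3 * (q ^ 3 * (q ^ 6 - 1))) : False := by
  have h1 : q ^ (4 + 4) * ((q ^ 2 - 1) * (q ^ 6 - 1)) ∣ (6 * e) * (q ^ 4 * ((q ^ 6 - 1) * (q ^ 2 - 1))) := by
    have h2 : 2 * (e * Y) ∣ 2 * (e * ((3 * (q ^ 3 * (q ^ 6 - 1))) * (q * (q ^ 2 - 1)))) :=
      Nat.mul_dvd_mul_left _ (Nat.mul_dvd_mul_left _ (hY.trans (Nat.mul_dvd_mul_right hR _)))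
    have e1 : 2 * (e * ((3 * (q ^ 3 * (q ^ 6 - 1))) * (q * (q ^ 2 - 1)))) =
        (6 * e) * (q ^ 4 * ((q ^ 6 - 1) * (q ^ 2 - 1))) := by ring
    rw [← e1]
    exact h.trans h2
  have hc : Nat.Coprime q ((q ^ 6 - 1) * (q ^ 2 - 1)) :=
    (cop_sub (by omega) (by norm_num)).mul_right (cop_sub (by omega) (by norm_num))
  exact q2_gt hq hf (by omega) (by omega) (by norm_num) (pow_dvd_of h1 hc (by omega))

/-- the image in `SL_2(q ^ 3).3`, point, `X ≥ Sp_4(q ^ 2)` -/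
theorem num_cub_par1 {q Y e f R : ℕ} (hq : 13 ≤ q) (hf : 6 * f ≤ q) (he : 0 < e) (he2 : e ≤ 2 * f)
    (h : q ^ 8 * ((q ^ 2 - 1) * (q ^ 6 - 1)) ∣ e * Y) (hY : Y ∣ R * ((q - 1) * (q ^ 6 * q)))
    (hR : R ∣ 3 * (q ^ 3 * (q ^ 6 - 1))) : False := by
  have h6 : 0 < q ^ 6 - 1 := by
    have : 1 < q ^ 6 := Nat.one_lt_pow (by norm_num) (by omega)
    omega
  obtain ⟨x, rfl⟩ : ∃ x, q = x + 1 := ⟨q - 1, by omega⟩
  have hA : (x + 1) ^ 2 - 1 = x * (x + 1 + 1) := by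
    have : (x + 1) ^ 2 = x * (x + 1 + 1) + 1 := by ring
    omega
  rw [hA] at h
  rw [Nat.add_sub_cancel] at hY
  have h1 : ((x + 1) ^ 8 * (x * ((x + 1) ^ 6 - 1))) * (x + 1 + 1) ∣ ((x + 1) ^ 8 * (x * ((x + 1) ^ 6 - 1))) * ((3 * e) * (x + 1) ^ 2) := by
    have h2 : e * Y ∣ e * ((3 * ((x + 1) ^ 3 * ((x + 1) ^ 6 - 1))) * (x * ((x + 1) ^ 6 * (x + 1)))) :=
      Nat.mul_dvd_mul_left _ (hY.trans (Nat.mul_dvd_mul_right hR _))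
    have e1 : e * ((3 * ((x + 1) ^ 3 * ((x + 1) ^ 6 - 1))) * (x * ((x + 1) ^ 6 * (x + 1)))) =
        ((x + 1) ^ 8 * (x * ((x + 1) ^ 6 - 1))) * ((3 * e) * (x + 1) ^ 2) := by ring
    have e2 : (x + 1) ^ 8 * (x * (x + 1 + 1) * ((x + 1) ^ 6 - 1)) = ((x + 1) ^ 8 * (x * ((x + 1) ^ 6 - 1))) * (x + 1 + 1) := by ring
    rw [← e1, ← e2]
    exact h.trans h2
  have hx : 0 < x := by omega
  have h2 := Nat.dvd_of_mul_dvd_mul_left (by positivity) h1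
  have hc : Nat.Coprime (x + 1 + 1) ((x + 1) ^ 2) := Nat.Coprime.pow_right 2 (by simp)
  have h3 := Nat.le_of_dvd (by omega) (hc.dvd_of_dvd_mul_right h2)
  omega

/-- the image in `SL_2(q ^ 3).3`, point, `X ≤ Sp_2(q ^ 4).4` -/
theorem num_cub_par2 {q Y e f R : ℕ} (hq : 13 ≤ q) (hf : f < q) (he : 0 < e) (he2 : e ≤ 2 * f)
    (h : q ^ 12 * ((q ^ 2 - 1) * (q ^ 4 - 1) * (q ^ 6 - 1)) ∣ 2 * (e * Y)) (hY : Y ∣ R * ((q - 1) * (q ^ 6 * q)))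
    (hR : R ∣ 3 * (q ^ 3 * (q ^ 6 - 1))) : False := by
  have h1 : q ^ (10 + 2) * ((q ^ 2 - 1) * (q ^ 4 - 1) * (q ^ 6 - 1)) ∣ (6 * e) * (q ^ 10 * ((q - 1) * (q ^ 6 - 1))) := by
    have h2 : 2 * (e * Y) ∣ 2 * (e * ((3 * (q ^ 3 * (q ^ 6 - 1))) * ((q - 1) * (q ^ 6 * q)))) :=
      Nat.mul_dvd_mul_left _ (Nat.mul_dvd_mul_left _ (hY.trans (Nat.mul_dvd_mul_right hR _)))
    have e1 : 2 * (e * ((3 * (q ^ 3 * (q ^ 6 - 1))) * ((q - 1) * (q ^ 6 * q)))) =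
        (6 * e) * (q ^ 10 * ((q - 1) * (q ^ 6 - 1))) := by ring
    rw [← e1]
    exact h.trans h2
  have hc : Nat.Coprime q ((q - 1) * (q ^ 6 - 1)) := (cop_two (by omega)).mul_right (cop_sub (by omega) (by norm_num))
  exact q2_gt hq hf (by omega) (by omega) le_rfl (pow_dvd_of h1 hc (by omega))

/-- a small image -/
theorem num_small {q Y e f R : ℕ} (hq : 13 ≤ q) (hf : f < q) (he : 0 < e) (he2 : e ≤ 2 * f) (hY0 : 0 < Y)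
    (h : q ^ 8 * ((q ^ 2 - 1) * (q ^ 6 - 1)) ∣ 2 * (e * Y)) (hY : Y ≤ R * q ^ 8) (hR : R ≤ 2419200) : False := by
  have h2 := Nat.le_of_dvd (by positivity) h
  have h3 : q ^ 8 * ((q ^ 2 - 1) * (q ^ 6 - 1)) ≤ q ^ 8 * (4838400 * e) := by
    calc _ ≤ 2 * (e * Y) := h2
      _ ≤ 2 * (e * (2419200 * q ^ 8)) :=
        Nat.mul_le_mul_left _ (Nat.mul_le_mul_left _ (hY.trans (Nat.mul_le_mul_right _ hR)))
      _ = _ := by ring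
  have h4 := Nat.le_of_mul_le_mul_left h3 (by positivity)
  have h5 : 12 * q ≤ q ^ 2 - 1 := by
    have : 13 * q ≤ q ^ 2 := by rw [sq]; exact Nat.mul_le_mul_right _ hq
    omega
  have h6 : 4826808 ≤ q ^ 6 - 1 := by
    have : 13 ^ 6 ≤ q ^ 6 := Nat.pow_le_pow_left hq 6
    norm_num at this
    omega
  have h7 : 12 * q * 4826808 ≤ (q ^ 2 - 1) * (q ^ 6 - 1) := Nat.mul_le_mul h5 h6
  omega

/-- the full image, `X ≥ Sp_4(q ^ 2)` -/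
theorem num_top1 {q Y e : ℕ} (hq : 13 ≤ q) (he : 0 < e) (hY0 : 0 < Y)
    (h : e * Y ≤ 2 * (q ^ 8 * ((q ^ 2 - 1) * (q ^ 6 - 1))))
    (hY : q ^ 9 * ((q ^ 2 - 1) * (q ^ 4 - 1) * (q ^ 6 - 1)) ∣ Y) : False := by
  have h2 : 0 < q ^ 2 - 1 := by
    have : 1 < q ^ 2 := Nat.one_lt_pow (by norm_num) (by omega)
    omega
  have h4 : 3 ≤ q ^ 4 - 1 := by
    have : 13 ^ 4 ≤ q ^ 4 := Nat.pow_le_pow_left hq 4
    norm_num at this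
    omega
  have h6 : 0 < q ^ 6 - 1 := by
    have : 1 < q ^ 6 := Nat.one_lt_pow (by norm_num) (by omega)
    omega
  have h1 := Nat.le_of_dvd hY0 hY
  have h3 : Y ≤ e * Y := Nat.le_mul_of_pos_left _ he
  have h5 : (q ^ 8 * ((q ^ 2 - 1) * (q ^ 6 - 1))) * (q * (q ^ 4 - 1)) ≤ (q ^ 8 * ((q ^ 2 - 1) * (q ^ 6 - 1))) * 2 := by
    calc _ = q ^ 9 * ((q ^ 2 - 1) * (q ^ 4 - 1) * (q ^ 6 - 1)) := by ring
      _ ≤ _ := (h1.trans h3).trans h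
      _ = _ := by ring
  have h7 := Nat.le_of_mul_le_mul_left h5 (by positivity)
  have h8 : 13 * 3 ≤ q * (q ^ 4 - 1) := Nat.mul_le_mul hq h4
  omega

/-- the full image, nondegenerate plane, `X ≤ Sp_2(q ^ 4).4` -/
theorem num_top_sta {q Y e f : ℕ} (hq : 13 ≤ q) (hf : f < q) (he : 0 < e) (he2 : e ≤ 2 * f)
    (h : q ^ 12 * ((q ^ 2 - 1) * (q ^ 4 - 1) * (q ^ 6 - 1)) ∣ 2 * (e * Y))
    (hY : Y ∣ (q ^ 9 * ((q ^ 2 - 1) * (q ^ 4 - 1) * (q ^ 6 - 1))) * (q * (q ^ 2 - 1))) : False := by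
  have h1 : q ^ (10 + 2) * ((q ^ 2 - 1) * (q ^ 4 - 1) * (q ^ 6 - 1)) ∣
      (2 * e) * (q ^ 10 * ((q ^ 2 - 1) * (q ^ 4 - 1) * (q ^ 6 - 1) * (q ^ 2 - 1))) := by
    have h2 : 2 * (e * Y) ∣ 2 * (e * ((q ^ 9 * ((q ^ 2 - 1) * (q ^ 4 - 1) * (q ^ 6 - 1))) * (q * (q ^ 2 - 1)))) :=
      Nat.mul_dvd_mul_left _ (Nat.mul_dvd_mul_left _ hY)
    have e1 : 2 * (e * ((q ^ 9 * ((q ^ 2 - 1) * (q ^ 4 - 1) * (q ^ 6 - 1))) * (q * (q ^ 2 - 1)))) =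
        (2 * e) * (q ^ 10 * ((q ^ 2 - 1) * (q ^ 4 - 1) * (q ^ 6 - 1) * (q ^ 2 - 1))) := by ring
    rw [← e1]
    exact h.trans h2
  have hc : Nat.Coprime q ((q ^ 2 - 1) * (q ^ 4 - 1) * (q ^ 6 - 1) * (q ^ 2 - 1)) :=
    (((cop_sub (by omega) (by norm_num)).mul_right (cop_sub (by omega) (by norm_num))).mul_right
      (cop_sub (by omega) (by norm_num))).mul_right (cop_sub (by omega) (by norm_num))
  exact q2_gt hq hf (by omega) (by omega) le_rfl (pow_dvd_of h1 hc (by omega))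

/-- the full image, point, first case, `X ≤ Sp_2(q ^ 4).4` -/
theorem num_top_par1 {q Y e f : ℕ} (hq : 13 ≤ q) (hf : f < q) (he : 0 < e) (he2 : e ≤ 2 * f)
    (h : q ^ 12 * ((q ^ 2 - 1) * (q ^ 4 - 1) * (q ^ 6 - 1)) ∣ 2 * (e * Y))
    (hY : Y ∣ (q ^ 9 * ((q ^ 2 - 1) * (q ^ 4 - 1) * (q ^ 6 - 1))) * ((q - 1) * q)) : False := by
  have h1 : q ^ (10 + 2) * ((q ^ 2 - 1) * (q ^ 4 - 1) * (q ^ 6 - 1)) ∣
      (2 * e) * (q ^ 10 * ((q ^ 2 - 1) * (q ^ 4 - 1) * (q ^ 6 - 1) * (q - 1))) := by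
    have h2 : 2 * (e * Y) ∣ 2 * (e * ((q ^ 9 * ((q ^ 2 - 1) * (q ^ 4 - 1) * (q ^ 6 - 1))) * ((q - 1) * q))) :=
      Nat.mul_dvd_mul_left _ (Nat.mul_dvd_mul_left _ hY)
    have e1 : 2 * (e * ((q ^ 9 * ((q ^ 2 - 1) * (q ^ 4 - 1) * (q ^ 6 - 1))) * ((q - 1) * q))) =
        (2 * e) * (q ^ 10 * ((q ^ 2 - 1) * (q ^ 4 - 1) * (q ^ 6 - 1) * (q - 1))) := by ring
    rw [← e1]
    exact h.trans h2
  have hc : Nat.Coprime q ((q ^ 2 - 1) * (q ^ 4 - 1) * (q ^ 6 - 1) * (q - 1)) :=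
    (((cop_sub (by omega) (by norm_num)).mul_right (cop_sub (by omega) (by norm_num))).mul_right
      (cop_sub (by omega) (by norm_num))).mul_right (cop_two (by omega))
  exact q2_gt hq hf (by omega) (by omega) le_rfl (pow_dvd_of h1 hc (by omega))

/-- the full image, point, second case, `X ≥ Sp_2(q ^ 4)` -/
theorem num_top_par2 {q X Y e c : ℕ} (hq : 13 ≤ q) (he : 0 < e) (hc : 0 < c) (hX0 : 0 < X)
    (h : X * Y * e = 2 * (q ^ 16 * ((q ^ 2 - 1) * (q ^ 4 - 1) * (q ^ 6 - 1) * (q ^ 8 - 1))))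
    (hX : q ^ 4 * (q ^ 8 - 1) ∣ X)
    (hY : Y = (q ^ 9 * ((q ^ 2 - 1) * (q ^ 4 - 1) * (q ^ 6 - 1))) * (c * (q ^ 6 * q))) : False := by
  have h2 : 0 < q ^ 2 - 1 := by
    have : 1 < q ^ 2 := Nat.one_lt_pow (by norm_num) (by omega)
    omega
  have h4 : 0 < q ^ 4 - 1 := by
    have : 1 < q ^ 4 := Nat.one_lt_pow (by norm_num) (by omega)
    omega
  have h6 : 0 < q ^ 6 - 1 := by
    have : 1 < q ^ 6 := Nat.one_lt_pow (by norm_num) (by omega)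
    omega
  have h8 : 0 < q ^ 8 - 1 := by
    have : 1 < q ^ 8 := Nat.one_lt_pow (by norm_num) (by omega)
    omega
  have h1 := Nat.le_of_dvd hX0 hX
  have h3 : (q ^ 16 * ((q ^ 2 - 1) * (q ^ 4 - 1) * (q ^ 6 - 1) * (q ^ 8 - 1))) * q ^ 4 ≤
      (q ^ 16 * ((q ^ 2 - 1) * (q ^ 4 - 1) * (q ^ 6 - 1) * (q ^ 8 - 1))) * 2 := by
    calc _ = (q ^ 4 * (q ^ 8 - 1)) * ((q ^ 9 * ((q ^ 2 - 1) * (q ^ 4 - 1) * (q ^ 6 - 1))) * (1 * (q ^ 6 * q))) * 1 := by ring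
      _ ≤ X * ((q ^ 9 * ((q ^ 2 - 1) * (q ^ 4 - 1) * (q ^ 6 - 1))) * (c * (q ^ 6 * q))) * e :=
        Nat.mul_le_mul (Nat.mul_le_mul h1 (Nat.mul_le_mul_left _ (Nat.mul_le_mul_right _ hc))) he
      _ = X * Y * e := by rw [hY]
      _ = _ := by rw [h]; ring
  have h5 := Nat.le_of_mul_le_mul_left h3 (by positivity)
  have h7 : 13 ^ 4 ≤ q ^ 4 := Nat.pow_le_pow_left hq 4
  norm_num at h7
  omega

/-- the lower bound of the order of a factor excludes small factors -/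
theorem num_min {q X f : ℕ} (hq : 13 ≤ q) (hf : f < q) (h : (q + 1) * (q ^ 2 + 1) * (q ^ 4 + 1) ≤ X * f)
    (hX : X ≤ 16 * (q ^ 4 + 1) ∨ X ≤ 20160) : False := by
  rcases hX with hX | hX
  · have h1 : (q ^ 4 + 1) * ((q + 1) * (q ^ 2 + 1)) ≤ (q ^ 4 + 1) * (16 * f) := by
      calc _ = (q + 1) * (q ^ 2 + 1) * (q ^ 4 + 1) := by ring
        _ ≤ X * f := h
        _ ≤ (16 * (q ^ 4 + 1)) * f := Nat.mul_le_mul_right _ hX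
        _ = _ := by ring
    have h2 := Nat.le_of_mul_le_mul_left h1 (by positivity)
    have h3 : 13 * 13 ≤ q ^ 2 := by rw [sq]; exact Nat.mul_le_mul hq hq
    have h4 : q * 169 ≤ (q + 1) * (q ^ 2 + 1) := Nat.mul_le_mul (by omega) (by omega)
    omega
  · have h2 : X * f ≤ 20160 * q := Nat.mul_le_mul hX hf.le
    have h3 : 13 * 13 ≤ q ^ 2 := by rw [sq]; exact Nat.mul_le_mul hq hq
    have h4 : 13 ^ 4 ≤ q ^ 4 := Nat.pow_le_pow_left hq 4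
    norm_num at h4
    have h5 : q * 169 * 28561 ≤ (q + 1) * (q ^ 2 + 1) * (q ^ 4 + 1) :=
      Nat.mul_le_mul (Nat.mul_le_mul (by omega) (by omega)) (by omega)
    omega

theorem geom_four {q : ℕ} (hq : 1 < q) : (q ^ (2 * 4) - 1) / (q - 1) = (q + 1) * (q ^ 2 + 1) * (q ^ 4 + 1) := by
  apply Nat.div_eq_of_eq_mul_left (by omega)
  obtain ⟨x, rfl⟩ : ∃ x, q = x + 1 := ⟨q - 1, by omega⟩
  have h1 : 1 ≤ (x + 1) ^ (2 * 4) := Nat.one_le_pow _ _ (by omega)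
  zify [h1]
  simp only [Nat.add_sub_cancel]
  push_cast
  ring

end Cfsg.Agent.H920.Sp8
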