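import Cfsg.Agent.H920.Sp8.StY
import Cfsg.Agent.H920.Sp8.Frm
import Cfsg.Agent.H920.Sp8.Num
import Cfsg.Agent.H920.Sp8.L3
import Cfsg.Agent.H402.Rg.Odd2

/-!
# S3691: `PSp_8(q)`, `q` odd: no exact factorization
-/

set_option autoImplicit false
set_option linter.unusedSectionVars false

namespace Cfsg.Agent.H920.Sp8

open Cfsg Cfsg.Geo Matrix Module
open Cfsg.Agent.H884.El (PP)
open Cfsg.Agent.H248.Cov (od_of_pp exists_r4 exists_r6 exists_r8 Res24)
open Cfsg.Agent.H402.Rg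
open Cfsg.Agent.H909.Sp4List (Res88)
open Cfsg.Agent.H109.Cov (L06)
open scoped MatrixGroups

variable {F : Type} [Field F] [Fintype F] {p f : ℕ}

theorem six_le {p f : ℕ} (hp : 3 ≤ p) (hq : 13 ≤ p ^ f) : 6 * f ≤ p ^ f := by
  rcases Nat.lt_or_ge f 3 with h | h
  · omega
  · have key : ∀ n, 3 ≤ n → 6 * n ≤ 3 ^ n := by
      intro n hn
      induction n, hn using Nat.le_induction with
      | base => norm_num
      | succ n hn ih => rw [pow_succ]; omega
    exact (key f h).trans (Nat.pow_le_pow_left hp f)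

theorem card_sp3 : Nat.card (spGL 3 F) = Fintype.card F ^ 9 *
    ((Fintype.card F ^ 2 - 1) * (Fintype.card F ^ 4 - 1) * (Fintype.card F ^ 6 - 1)) := by
  rw [card_sp, Finset.prod_range_succ, Finset.prod_range_succ, Finset.prod_range_one]
  norm_num

theorem card_sp4 : Nat.card (spGL 4 F) = Fintype.card F ^ 16 *
    ((Fintype.card F ^ 2 - 1) * (Fintype.card F ^ 4 - 1) * (Fintype.card F ^ 6 - 1) * (Fintype.card F ^ 8 - 1)) := by
  rw [card_sp, Finset.prod_range_succ, Finset.prod_range_succ, Finset.prod_range_succ, Finset.prod_range_one]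
  norm_num

theorem card_sp2 : Nat.card (spGL 1 F) = Fintype.card F * (Fintype.card F ^ 2 - 1) := by
  rw [card_sp, Finset.prod_range_one, one_pow, pow_one]

theorem eight_aux (hp : p.Prime) (hf : 1 ≤ f) (hF : Fintype.card F = p ^ f) (hodd : Odd (Fintype.card F))
    (hq13 : 13 ≤ Fintype.card F)
    (h88 : ∀ (E : Type) [Field E] [Fintype E], Fintype.card E = Fintype.card F ^ 2 → Res88 E)
    (h24 : ∀ H : Subgroup (GL (Fin 4 ⊕ Fin 4) F), IsMaximalIn (spGL 4 F) H → InSymplecticResidualClass H → Res24 F H)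
    (h06 : ∀ H : Subgroup (GL (Fin 3 ⊕ Fin 3) F), IsMaximalIn (spGL 3 F) H → InSymplecticResidualClass H → L06 H)
    {X Y : Subgroup (GL (Fin 4 ⊕ Fin 4) F)} {e : ℕ} (h : Ctx 4 F f X Y e)
    {r : ℕ} (hr : PP p (f * 8) r) (hrX : r ∣ Nat.card X) : False := by
  have hfin : Finite (GL (Fin 4 ⊕ Fin 4) F) := inferInstance
  have hpf : Fact p.Prime := ⟨hp⟩
  have hchar : CharP F p := by
    obtain ⟨p', hp'⟩ := CharP.exists F
    obtain ⟨n, hpp, hn⟩ := FiniteField.card F p'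
    have h1 : p' ∣ p ^ f := by rw [← hF, hn]; exact dvd_pow_self _ n.ne_zero
    have h2 : p' = p := (Nat.prime_dvd_prime_iff_eq hpp hp).1 (hpp.dvd_of_dvd_pow h1)
    rwa [h2] at hp'
  have hp2 : p ≠ 2 := by
    rintro rfl
    rw [hF] at hodd
    exact absurd ((Nat.odd_pow_iff (by omega)).1 hodd) (by decide)
  have hp3 : 3 ≤ p := by
    have := hp.two_le
    omega
  have h6f : 6 * f ≤ Fintype.card F := by
    rw [hF] at hq13 ⊢
    exact six_le hp3 hq13
  have he2f := Nat.le_of_dvd (by omega) h.he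
  have he1 : 1 ≤ e := by
    rcases Nat.eq_zero_or_pos e with h0 | h0
    · have := h.he
      rw [h0] at this
      have := Nat.eq_zero_of_zero_dvd this
      omega
    · exact h0
  obtain ⟨s6, hs6⟩ := exists_r6 hp hp2 hf
  obtain ⟨s3, hs3⟩ : ∃ r, PP p (f * 3) r := Cfsg.Agent.H884.El.exists_pp hp.two_le (by omega) (by rintro ⟨h1, -⟩; exact hp2 h1)
  have o6 := od_of_pp hF hf (by norm_num) hs6
  have o3 := od_of_pp hF hf (by norm_num) hs3
  have l6 := hs6.lt (by omega)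
  have l3 := hs3.lt (by omega)
  have hs3odd := hs3.odd (by omega)
  have hs6odd := hs6.odd (by omega)
  have hYpos : 0 < Nat.card Y := Nat.card_pos
  have hXpos : 0 < Nat.card X := Nat.card_pos
  set q := Fintype.card F with hqd
  have hfq : f < q := by omega
  have hcard : Nat.card X * Nat.card Y * e = 2 * (q ^ 16 * ((q ^ 2 - 1) * (q ^ 4 - 1) * (q ^ 6 - 1) * (q ^ 8 - 1))) := by
    rw [h.card, card_sp4]
  -- the lower bound of `|X|`
  have hlow : (q + 1) * (q ^ 2 + 1) * (q ^ 4 + 1) ≤ Nat.card X * f := by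
    have h1 := h.minY
    rw [← hqd, geom_four (by omega)] at h1
    have h2 := h.card
    have h3 : (2 * ((q + 1) * (q ^ 2 + 1) * (q ^ 4 + 1))) * Nat.card Y ≤ (Nat.card X * e) * Nat.card Y := by
      calc (2 * ((q + 1) * (q ^ 2 + 1) * (q ^ 4 + 1))) * Nat.card Y = 2 * (Nat.card Y * ((q + 1) * (q ^ 2 + 1) * (q ^ 4 + 1))) := by ring
        _ ≤ 2 * Nat.card (spGL 4 F) := Nat.mul_le_mul_left _ h1
        _ = (Nat.card X * e) * Nat.card Y := by rw [← h2]; ring
    have h4 := Nat.le_of_mul_le_mul_right h3 hYpos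
    have h5 : Nat.card X * e ≤ Nat.card X * (2 * f) := Nat.mul_le_mul_left _ he2f
    have h6 : 2 * ((q + 1) * (q ^ 2 + 1) * (q ^ 4 + 1)) ≤ 2 * (Nat.card X * f) := by
      calc _ ≤ _ := h4.trans h5
        _ = _ := by ring
    omega
  -- primes
  have n6 : ∀ i : ℕ, ¬ 6 ∣ i → ¬ s6 ∣ q ^ i - 1 := fun i hi hd => hi ((o6.dvd_iff (by omega) i).1 hd)
  have n3 : ∀ i : ℕ, ¬ 3 ∣ i → ¬ s3 ∣ q ^ i - 1 := fun i hi hd => hi ((o3.dvd_iff (by omega) i).1 hd)
  have m6 : ∀ i : ℕ, ¬ s6 ∣ q ^ i := fun i hd => by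
    rw [hF] at hd
    exact hs6.not_dvd (by omega) (hs6.prime.dvd_of_dvd_pow (hs6.prime.dvd_of_dvd_pow hd))
  have m3 : ∀ i : ℕ, ¬ s3 ∣ q ^ i := fun i hd => by
    rw [hF] at hd
    exact hs3.not_dvd (by omega) (hs3.prime.dvd_of_dvd_pow (hs3.prime.dvd_of_dvd_pow hd))
  have t6 : ¬ s6 ∣ 4 := fun hd => by have := Nat.le_of_dvd (by norm_num) hd; omega
  have t3 : ¬ s3 ∣ 4 := fun hd => by
    have h1 : s3 ∣ 2 ^ 2 := hd
    have h2 := (Nat.prime_dvd_prime_iff_eq hs3.prime Nat.prime_two).1 (hs3.prime.dvd_of_dvd_pow h1)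
    rw [h2] at hs3odd
    exact absurd hs3odd (by decide)
  have hdvd4 : ∀ s : ℕ, s.Prime → ¬ s ∣ 4 → ¬ s ∣ 2 := fun s _ h1 h2 => h1 (h2.trans (by norm_num))
  -- `s6` and `s3` divide `|Y|` if they do not divide `|X|`
  have hinY : ∀ s : ℕ, s.Prime → 2 * f < s → s ∣ q ^ 6 - 1 → ¬ s ∣ Nat.card X → s ∣ Nat.card Y := by
    intro s hs hsf hs1 hsX
    have h1 : s ∣ Nat.card X * Nat.card Y * e := by
      rw [hcard]
      exact ((hs1.mul_left _).mul_right _).mul_left _ |>.mul_left _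
    rcases hs.dvd_mul.1 h1 with h2 | h2
    · rcases hs.dvd_mul.1 h2 with h3 | h3
      · exact absurd h3 hsX
      · exact h3
    · have := Nat.le_of_dvd (by omega) (h2.trans h.he)
      omega
  have d6 : s6 ∣ q ^ 6 - 1 := (o6.dvd_iff (by omega) 6).2 dvd_rfl
  have d3 : s3 ∣ q ^ 6 - 1 := (o3.dvd_iff (by omega) 6).2 (by norm_num)
  -- the two possibilities for `X`
  obtain ⟨hX6, hX3, hall⟩ : ¬ s6 ∣ Nat.card X ∧ ¬ s3 ∣ Nat.card X ∧
      ((q ^ 8 * ((q ^ 2 - 1) * (q ^ 6 - 1)) ∣ e * Nat.card Y ∧ e * Nat.card Y ≤ 2 * (q ^ 8 * ((q ^ 2 - 1) * (q ^ 6 - 1)))) ∨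
      (q ^ 12 * ((q ^ 2 - 1) * (q ^ 4 - 1) * (q ^ 6 - 1)) ∣ 2 * (e * Nat.card Y) ∧ q ^ 4 * (q ^ 8 - 1) ∣ Nat.card X)) := by
    rcases struct_X hp hchar hf hF hodd (by omega) h88 h24 hr h.leX h.neX hrX with ⟨j, hj, hX⟩ | ⟨hX1, hX2⟩ | hX | hX
    · rw [← hqd] at hX
      refine ⟨?_, ?_, Or.inl (num_X1 (by omega) hcard hj hX)⟩
      · rw [hX, hs6.prime.dvd_mul, hs6.prime.dvd_mul, hs6.prime.dvd_mul]
        rintro (h1 | h1 | h1 | h1)
        · exact t6 ((h1.trans hj).trans (by norm_num))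
        · exact m6 _ h1
        · exact n6 4 (by norm_num) h1
        · exact n6 8 (by norm_num) h1
      · rw [hX, hs3.prime.dvd_mul, hs3.prime.dvd_mul, hs3.prime.dvd_mul]
        rintro (h1 | h1 | h1 | h1)
        · exact t3 ((h1.trans hj).trans (by norm_num))
        · exact m3 _ h1
        · exact n3 4 (by norm_num) h1
        · exact n3 8 (by norm_num) h1
    · rw [← hqd] at hX1 hX2
      refine ⟨?_, ?_, Or.inr ⟨num_X2 (by omega) hcard hX1, hX2⟩⟩
      · intro hd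
        have h1 := hd.trans hX1
        rw [hs6.prime.dvd_mul, hs6.prime.dvd_mul] at h1
        rcases h1 with h1 | h1 | h1
        · exact t6 h1
        · exact m6 _ h1
        · exact n6 8 (by norm_num) h1
      · intro hd
        have h1 := hd.trans hX1
        rw [hs3.prime.dvd_mul, hs3.prime.dvd_mul] at h1
        rcases h1 with h1 | h1 | h1
        · exact t3 h1
        · exact m3 _ h1
        · exact n3 8 (by norm_num) h1
    · exact (num_min hq13 hfq hlow (Or.inl hX)).elim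
    · exact (num_min hq13 hfq hlow (Or.inr hX)).elim
  have hY6 := hinY s6 hs6.prime (by omega) d6 hX6
  have hY3 := hinY s3 hs3.prime (by omega) d3 hX3
  have huni : q ^ 8 * ((q ^ 2 - 1) * (q ^ 6 - 1)) ∣ 2 * (e * Nat.card Y) := by
    rcases hall with ⟨h1, -⟩ | ⟨h1, -⟩
    · exact h1.mul_left 2
    · refine Dvd.dvd.trans ?_ h1
      exact ⟨q ^ 4 * (q ^ 4 - 1), by ring⟩
  rcases struct_Y hp hchar hf hF hodd h24 hs6 hs3 h.leY h.neY hY6 hY3 with ⟨W, hW0, hW2, hW, hYW⟩ | h1 | h1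
  rotate_left
  · exact num_herm hq13 hfq (by omega) he2f huni h1
  · exact num_res hq13 hfq hf (by omega) he2f huni h1
  have hperf : commutator (spGL 3 F) = ⊤ := Cfsg.Agent.H16.PSp4.spGL_perfect (Or.inl le_rfl)
  -- proper images
  have hprop : ∀ (R : Subgroup (GL (Fin 3 ⊕ Fin 3) F)) (c : ℕ), R ≤ spGL 3 F → R ≠ spGL 3 F → Nat.card Y ∣ Nat.card R * c →
      0 < c → c ≤ q ^ 8 → ¬ s6 ∣ c → ¬ s3 ∣ c → Nat.card R ∣ 3 * (q ^ 3 * (q ^ 6 - 1)) := by
    intro R c hR hRne hYR hc0 hc hc6 hc3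
    have h1 : s6 ∣ Nat.card R := (hs6.prime.dvd_mul.1 (hY6.trans hYR)).resolve_right hc6
    have h2 : s3 ∣ Nat.card R := (hs3.prime.dvd_mul.1 (hY3.trans hYR)).resolve_right hc3
    rcases list3_six9 hp hf hF hodd (by omega) h06 hs6 hR hRne h1 with ⟨K, hK, hsa, halt, hRK⟩ | h3 | h3
    · have h4 := norm_dvd (n := 1) (by norm_num) (by norm_num) (by norm_num) hK hsa halt hR hRK
      rw [Finset.prod_range_one] at h4
      have e1 : (Fintype.card F ^ 3) ^ 1 ^ 2 = q ^ 3 := by ring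
      have e2 : (Fintype.card F ^ 3) ^ (2 * (0 + 1)) = q ^ 6 := by ring
      rwa [e1, e2] at h4
    · exfalso
      rw [← hqd] at h3
      have h4 := h2.trans h3
      have h5 : s3 ∣ q ^ 3 - 1 := (o3.dvd_iff (by omega) 3).2 dvd_rfl
      have h7 : ¬ s3 ∣ q ^ 3 + 1 := by
        intro h8
        have h9 := Nat.dvd_sub h8 h5
        have h10 : 1 ≤ q ^ 3 := Nat.one_le_pow _ _ (by omega)
        have h11 : q ^ 3 + 1 - (q ^ 3 - 1) = 2 := by omega
        rw [h11] at h9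
        exact hdvd4 s3 hs3.prime t3 h9
      have h12 : ¬ s3 ∣ q + 1 := by
        intro h8
        apply n3 2 (by norm_num)
        have h9 : q ^ 2 - 1 = (q + 1) * (q - 1) := by
          obtain ⟨x, hx⟩ : ∃ x, q = x + 1 := ⟨q - 1, by omega⟩
          rw [hx]
          have : (x + 1) ^ 2 = (x + 1 + 1) * x + 1 := by ring
          rw [Nat.add_sub_cancel]
          omega
        rw [h9]
        exact h8.mul_right _
      rw [hs3.prime.dvd_mul, hs3.prime.dvd_mul, hs3.prime.dvd_mul, hs3.prime.dvd_mul] at h4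
      rcases h4 with h4 | ((h4 | h4) | h4) | h4
      · exact hdvd4 s3 hs3.prime t3 h4
      · exact m3 _ h4
      · exact h12 h4
      · exact n3 2 (by norm_num) h4
      · exact h7 h4
    · exfalso
      have hRpos : 0 < Nat.card R := Nat.card_pos
      refine num_small hq13 hfq (by omega) he2f hYpos huni ?_ h3
      exact (Nat.le_of_dvd (Nat.mul_pos hRpos hc0) hYR).trans (Nat.mul_le_mul_left _ hc)
  have hq1 : 0 < q - 1 := by omega
  have hq2 : 0 < q ^ 2 - 1 := by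
    have : 1 < q ^ 2 := Nat.one_lt_pow (by norm_num) (by omega)
    omega
  have c1 : 0 < (q - 1) * (q ^ 6 * q) := by positivity
  have c2 : (q - 1) * (q ^ 6 * q) ≤ q ^ 8 := by
    calc (q - 1) * (q ^ 6 * q) ≤ q * (q ^ 6 * q) := Nat.mul_le_mul_right _ (by omega)
      _ = q ^ 8 := by ring
  have c3 : ¬ s6 ∣ (q - 1) * (q ^ 6 * q) := by
    rw [hs6.prime.dvd_mul, hs6.prime.dvd_mul]
    rintro (h1 | h1 | h1)
    · exact n6 1 (by norm_num) (by rwa [pow_one])
    · exact m6 _ h1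
    · exact m6 1 (by rwa [pow_one])
  have c4 : ¬ s3 ∣ (q - 1) * (q ^ 6 * q) := by
    rw [hs3.prime.dvd_mul, hs3.prime.dvd_mul]
    rintro (h1 | h1 | h1)
    · exact n3 1 (by norm_num) (by rwa [pow_one])
    · exact m3 _ h1
    · exact m3 1 (by rwa [pow_one])
  have k1 : 0 < q * (q ^ 2 - 1) := by positivity
  have k2 : q * (q ^ 2 - 1) ≤ q ^ 8 := by
    calc q * (q ^ 2 - 1) ≤ q * q ^ 2 := Nat.mul_le_mul_left _ (by omega)
      _ = q ^ 3 := by ring
      _ ≤ q ^ 8 := Nat.pow_le_pow_right (by omega) (by norm_num)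
  have k3 : ¬ s6 ∣ q * (q ^ 2 - 1) := by
    rw [hs6.prime.dvd_mul]
    rintro (h1 | h1)
    · exact m6 1 (by rwa [pow_one])
    · exact n6 2 (by norm_num) h1
  have k4 : ¬ s3 ∣ q * (q ^ 2 - 1) := by
    rw [hs3.prime.dvd_mul]
    rintro (h1 | h1)
    · exact m3 1 (by rwa [pow_one])
    · exact n3 2 (by norm_num) h1
  obtain ⟨fr, hPS⟩ := exists_par_or_sta (k := 3) (by norm_num) hW0 hW2 hW h.leY hYW
  rcases hPS with hP | hS
  · -- the stabiliser of a point
    have hR : (fr.rho hP.ok).range ≤ spGL 3 F := by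
      rintro _ ⟨x, rfl⟩
      exact Fr.rho_mem hP.ok x
    have hYR := Fr.par_dvd hP
    have e1 : Fintype.card F ^ (2 * 3) = q ^ 6 := by rw [hqd]
    rw [e1, ← hqd] at hYR
    by_cases hfull : (fr.rho hP.ok).range = spGL 3 F
    · rcases hall with ⟨h1, h2⟩ | ⟨h1, h2⟩
      · refine num_top1 hq13 (by omega) hYpos h2 ?_
        rw [← card_sp3, ← hfull]
        exact Subgroup.card_range_dvd _
      · rcases Fr.par_cases hP (by norm_num) (two_ne hodd) hperf hfull.ge with h3 | ⟨c, hc, h3⟩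
        · rw [card_sp3, ← hqd] at h3
          exact num_top_par1 hq13 hfq (by omega) he2f h1 h3
        · rw [card_sp3, e1, ← hqd] at h3
          rw [← hqd] at hc
          refine num_top_par2 hq13 (by omega) (Nat.pos_of_dvd_of_pos hc hq1) hXpos hcard h2 h3
    · have h1 := hprop _ _ hR hfull hYR c1 c2 c3 c4
      rcases hall with ⟨h2, -⟩ | ⟨h2, -⟩
      · exact num_cub_par1 hq13 h6f (by omega) he2f h2 hYR h1
      · exact num_cub_par2 hq13 hfq (by omega) he2f h2 hYR h1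
  · -- the stabiliser of a nondegenerate plane
    have hR : (Fr.r₂ hS).range ≤ spGL 3 F := by
      rintro _ ⟨x, rfl⟩
      exact Fr.r₂_mem hS x
    have hYR := Fr.card_sta hS
    rw [card_sp2, ← hqd] at hYR
    by_cases hfull : (Fr.r₂ hS).range = spGL 3 F
    · rcases hall with ⟨h1, h2⟩ | ⟨h1, h2⟩
      · refine num_top1 hq13 (by omega) hYpos h2 ?_
        rw [← card_sp3, ← hfull]
        exact Subgroup.card_range_dvd _
      · rw [hfull, card_sp3, ← hqd] at hYR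
        exact num_top_sta hq13 hfq (by omega) he2f h1 hYR
    · have h1 := hprop _ _ hR hfull hYR k1 k2 k3 k4
      exact num_cub_sta hq13 hfq (by omega) he2f huni hYR h1

/-- **no exact factorization** -/
theorem eight (hp : p.Prime) (hf : 1 ≤ f) (hF : Fintype.card F = p ^ f) (hodd : Odd (Fintype.card F))
    (hq13 : 13 ≤ Fintype.card F)
    (h88 : ∀ (E : Type) [Field E] [Fintype E], Fintype.card E = Fintype.card F ^ 2 → Res88 E)
    (h24 : ∀ H : Subgroup (GL (Fin 4 ⊕ Fin 4) F), IsMaximalIn (spGL 4 F) H → InSymplecticResidualClass H → Res24 F H)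
    (h06 : ∀ H : Subgroup (GL (Fin 3 ⊕ Fin 3) F), IsMaximalIn (spGL 3 F) H → InSymplecticResidualClass H → L06 H)
    {X Y : Subgroup (GL (Fin 4 ⊕ Fin 4) F)} {e : ℕ} (h : Ctx 4 F f X Y e) : False := by
  obtain ⟨r, hr, -⟩ := exists_r8 hp hf
  have hod := od_of_pp hF hf (by norm_num) hr
  have hrd : r ∣ Nat.card X * Nat.card Y * e := by
    rw [h.card, card_sp4]
    have h1 : r ∣ Fintype.card F ^ 8 - 1 := (hod.dvd_iff Fintype.card_pos 8).2 dvd_rfl
    exact ((h1.mul_left _).mul_left _).mul_left _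
  have hlt := hr.lt (by omega)
  rcases hr.prime.dvd_mul.1 hrd with h1 | h1
  · rcases hr.prime.dvd_mul.1 h1 with h2 | h2
    · exact eight_aux hp hf hF hodd hq13 h88 h24 h06 h hr h2
    · exact eight_aux hp hf hF hodd hq13 h88 h24 h06 h.symm hr h2
  · have := Nat.le_of_dvd (by omega) (h1.trans h.he)
    omega

end Cfsg.Agent.H920.Sp8
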