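import Cfsg.Agent.H920.Sp8.Main

/-!
# S3691: the row `PSp_8(q)`, `q` odd, from the lists of the residual classes

* `thirteen_le` : `q ≥ 13` if the complement has order `> 3 * 29!`
* `false_of_ex` : no exact factorization
-/

set_option autoImplicit false
set_option linter.unusedSectionVars false

namespace Cfsg.Agent.H920.Sp8

open Cfsg Cfsg.Geo Matrix Module
open Cfsg.Agent.H248.Cov (Res24)
open Cfsg.Agent.H402.Rg
open Cfsg.Agent.H909.Sp4List (Res88)
open Cfsg.Agent.H109.Cov (L06)
open Cfsg.Agent.H454.Reg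
open Cfsg.Agent.H618.Dp (prj card_ker)
open scoped MatrixGroups

universe u

variable {F : Type} [Field F] [Fintype F] {G : Type u} [Group G] [Finite G] {T H B : Subgroup G}

theorem fac29 : Nat.factorial 29 = 8841761993739701954543616000000 := by decide +kernel

/-- **the size of the field** -/
theorem thirteen_le (hE : Ex T H B) (hnB : ¬ T ≤ B) (i : T ≃* PSp 4 F) (hodd : Odd (Fintype.card F)) :
    13 ≤ Fintype.card F := by
  classical
  have hTn := hE.normal
  have hTs := hE.simple
  have h3 : 3 ≤ Fintype.card F := by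
    have h1 : 1 < Fintype.card F := Fintype.one_lt_card
    obtain ⟨k, hk⟩ := hodd
    omega
  by_contra hcon
  obtain ⟨p, hch⟩ := CharP.exists F
  obtain ⟨n, hp, hn⟩ := FiniteField.card F p
  have hf := n.pos
  generalize (n : ℕ) = f at hn hf
  replace hf : 1 ≤ f := hf
  have hpf : Fact p.Prime := ⟨hp⟩
  have hp2 : p ≠ 2 := by
    rintro rfl
    rw [hn] at hodd
    exact absurd ((Nat.odd_pow_iff (by omega)).1 hodd) (by decide)
  have hp3 : 3 ≤ p := by
    have := hp.two_le
    omega
  have hf2 : f ≤ 2 := by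
    by_contra h
    have h1 : 3 ^ 3 ≤ p ^ f := (Nat.pow_le_pow_right (by norm_num) (by omega)).trans (Nat.pow_le_pow_left hp3 f)
    norm_num at h1
    omega
  have hout : Nat.card (Out T) = 2 * f := by
    apply Cfsg.Agent.H934.OutB.card_out_of_aut hE.nonab
    rw [Nat.card_congr (MulAut.congr i).toEquiv, S0814.result p f hf hn 4 (by norm_num) (fun _ => by rw [← hn]; exact h3),
      Nat.card_congr i.toEquiv, if_neg (fun hc => hp2 hc.2)]
    obtain ⟨k, hk⟩ := hodd
    rw [← hn, hk, Nat.add_sub_cancel, Nat.gcd_mul_right_right, one_mul]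
  -- `|B| ≤ |B ∩ T| |Out T|`
  have h1 := card_subgroupOf_mul T B
  have h2 : Nat.card (B.map (QuotientGroup.mk' T)) ≤ 2 * f := by
    rw [← hout]
    refine Nat.le_of_dvd Nat.card_pos ?_
    exact (Subgroup.card_subgroup_dvd_card _).trans (index_dvd_out T hE.cent)
  -- `|B ∩ T| P ≤ |T|`
  set Q := Fintype.card F with hQ
  set P := (Q ^ (2 * 4) - 1) / (Q - 1) with hP
  have h4 : Nat.card (B.subgroupOf T) * P ≤ Nat.card T := by
    set R : Subgroup (PSp 4 F) := (B.subgroupOf T).map i.toMonoidHom with hR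
    have hRt : R ≠ ⊤ := by
      intro h0
      apply hnB
      rw [← Subgroup.subgroupOf_eq_top]
      apply Subgroup.map_injective (f := i.toMonoidHom) i.injective
      rw [← hR, h0]
      exact (Subgroup.map_top_of_surjective _ i.surjective).symm
    have h5 := (S2141.result (F := F) rfl 4 (by norm_num) h3 (by omega)).1 R hRt
    have h6 : Nat.card R = Nat.card (B.subgroupOf T) := Subgroup.card_map_of_injective i.injective
    rw [← h6, Nat.card_congr i.toEquiv, ← R.card_mul_index]
    exact Nat.mul_le_mul_left _ h5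
  have hker := card_ker_odd (m := 4) (F := F) hodd (by norm_num)
  have hT : 2 * Nat.card T = Nat.card (spGL 4 F) := by
    have h5 := card_ker (m := 4) (F := F)
    rw [hker, ← Nat.card_congr i.toEquiv] at h5
    exact h5
  rw [card_sp4, ← hQ] at hT
  have hB : 3 * Nat.factorial 29 < Nat.card B := hE.large
  have h7 : (3 * Nat.factorial 29) * P ≤ 2 * (2 * Nat.card T) := by
    calc (3 * Nat.factorial 29) * P ≤ Nat.card B * P := Nat.mul_le_mul_right _ hB.le
      _ = Nat.card (B.map (QuotientGroup.mk' T)) * (Nat.card (B.subgroupOf T) * P) := by rw [← h1]; ring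
      _ ≤ (2 * f) * Nat.card T := Nat.mul_le_mul h2 h4
      _ ≤ (2 * 2) * Nat.card T := Nat.mul_le_mul_right _ (by omega)
      _ = _ := by ring
  rw [hT, fac29, hP] at h7
  have hQ12 : Q ≤ 12 := by omega
  clear_value Q
  interval_cases Q <;> norm_num at h7 <;> (exact absurd hodd (by decide))

/-- **no exact factorization with socle `PSp_8(q)`, `q` odd** -/
theorem false_of_ex (hodd : Odd (Fintype.card F))
    (h88 : ∀ (E : Type) [Field E] [Fintype E], Fintype.card E = Fintype.card F ^ 2 → Res88 E)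
    (h24 : ∀ H : Subgroup (GL (Fin 4 ⊕ Fin 4) F), IsMaximalIn (spGL 4 F) H → InSymplecticResidualClass H → Res24 F H)
    (h06 : ∀ H : Subgroup (GL (Fin 3 ⊕ Fin 3) F), IsMaximalIn (spGL 3 F) H → InSymplecticResidualClass H → L06 H)
    (hE : Ex T H B) (hnB : ¬ T ≤ B) (i : T ≃* PSp 4 F) : False := by
  have h13 := thirteen_le hE hnB i hodd
  obtain ⟨p, hch⟩ := CharP.exists F
  obtain ⟨n, hp, hn⟩ := FiniteField.card F p
  obtain ⟨X₁, Y₁, e, hC⟩ := exists_ctx (f := n) (m := 4) (hE.fac hnB) i hp n.pos hn hodd (by omega) (by norm_num)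
  exact eight hp n.pos hn hodd h13 h88 h24 h06 hC

end Cfsg.Agent.H920.Sp8
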