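import Cfsg.Agent.H402.Rg.Lst2
import Cfsg.Agent.H914.SixBase

/-!
# S3691, `PSp_8(q)`, `q` odd: the factor of order divisible by a primitive prime of exponent 8
-/

set_option autoImplicit false
set_option linter.unusedSectionVars false

namespace Cfsg.Agent.H920.Sp8

open Cfsg Cfsg.Geo Matrix Module
open Cfsg.Agent.H884.El (PP)
open Cfsg.Agent.H248.Cov
open Cfsg.Agent.H262.El
open Cfsg.Agent.H402.Rg
open Cfsg.Agent.H909.Sp4List (Res88)
open Cfsg.Agent.H753 (conjNormal_injective)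
open scoped MatrixGroups

universe u

/-- **The order divides `2 |Aut T|`** (after helper109). -/
theorem card_dvd {F : Type u} [Field F] [Finite F] {m : ℕ} (hm : 1 ≤ m) {H P : Subgroup (GL (Fin m ⊕ Fin m) F)}
    (hle : H ≤ spGL m F) (hc : IsResidualCore H P) :
    Nat.card H ∣ 2 * Nat.card (MulAut (P ⧸ (scalars (Fin m ⊕ Fin m) F).subgroupOf P)) := by
  classical
  set Z : Subgroup H := (scalars (Fin m ⊕ Fin m) F).subgroupOf H with hZ
  have hZn : Z.Normal := inferInstance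
  have hPn : (P.subgroupOf H).Normal := ⟨fun x hx g => hc.normal g g.2 x hx⟩
  set T : Subgroup (H ⧸ Z) := (P.subgroupOf H).map (QuotientGroup.mk' Z) with hT
  have hTn : T.Normal := hPn.map _ (QuotientGroup.mk'_surjective Z)
  have hZ2 : Nat.card Z ∣ 2 := by
    have h1 : Nat.card (Z.map H.subtype) ∣ Nat.card (Subgroup.zpowers (-1 : GL (Fin m ⊕ Fin m) F)) := by
      apply Subgroup.card_dvd_of_le
      rintro _ ⟨z, hz, rfl⟩
      rcases H914.S6.scalar_cases hm (hle z.2) hz with h | h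
      · change (z : GL (Fin m ⊕ Fin m) F) ∈ _
        rw [h]; exact one_mem _
      · change (z : GL (Fin m ⊕ Fin m) F) ∈ _
        rw [h]; exact Subgroup.mem_zpowers _
    rw [Nat.card_zpowers, Nat.card_congr (Z.equivMapOfInjective H.subtype H.subtype_injective).symm.toEquiv] at h1
    exact h1.trans (orderOf_dvd_of_pow_eq_one (by rw [neg_one_sq]))
  have hcent : Subgroup.centralizer (T : Set (H ⧸ Z)) = ⊥ := by
    rw [eq_bot_iff]
    intro g hg
    obtain ⟨h, rfl⟩ := QuotientGroup.mk_surjective g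
    rw [Subgroup.mem_bot]
    apply (QuotientGroup.eq_one_iff _).2
    refine hc.centralizer_scalar h h.2 ?_
    intro x hx
    obtain ⟨x', hx'⟩ : ∃ x' : H, (x' : GL (Fin m ⊕ Fin m) F) = x := ⟨⟨x, hc.le hx⟩, rfl⟩
    have h1 := Subgroup.mem_centralizer_iff.1 hg (QuotientGroup.mk' Z x')
      ⟨x', by rw [SetLike.mem_coe, Subgroup.mem_subgroupOf, hx']; exact hx, rfl⟩
    have h2 : QuotientGroup.mk' Z (h * x' * h⁻¹ * x'⁻¹) = 1 := by
      rw [map_mul, map_mul, map_mul, map_inv, map_inv]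
      change (h : H ⧸ Z) * _ * (h : H ⧸ Z)⁻¹ * _ = 1
      rw [← h1]
      group
    rw [QuotientGroup.mk'_apply, QuotientGroup.eq_one_iff, hZ, Subgroup.mem_subgroupOf] at h2
    rw [← hx']
    simpa only [Subgroup.coe_mul, Subgroup.coe_inv] using h2
  obtain ⟨f, hfx⟩ : ∃ f : P →* T, ∀ x : P, (f x : H ⧸ Z) = QuotientGroup.mk' Z ⟨x, hc.le x.2⟩ :=
    ⟨{ toFun := fun x => ⟨QuotientGroup.mk' Z ⟨x, hc.le x.2⟩, ⟨⟨x, hc.le x.2⟩, x.2, rfl⟩⟩
       map_one' := Subtype.ext rfl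
       map_mul' := fun x y => Subtype.ext rfl }, fun x => rfl⟩
  have hf : Function.Surjective f := by
    rintro ⟨_, ⟨x, hx, rfl⟩⟩
    exact ⟨⟨x, hx⟩, Subtype.ext (hfx _)⟩
  have hker : f.ker = (scalars (Fin m ⊕ Fin m) F).subgroupOf P := by
    ext x
    rw [MonoidHom.mem_ker, Subgroup.mem_subgroupOf, ← Subtype.coe_inj, hfx, QuotientGroup.mk'_apply,
      Subgroup.coe_one, QuotientGroup.eq_one_iff, hZ, Subgroup.mem_subgroupOf]
  have e : T ≃* P ⧸ (scalars (Fin m ⊕ Fin m) F).subgroupOf P :=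
    (QuotientGroup.quotientKerEquivOfSurjective f hf).symm.trans (QuotientGroup.quotientMulEquivOfEq hker)
  have hfin : Finite (GL (Fin m ⊕ Fin m) F) := inferInstance
  have h1 : Nat.card (H ⧸ Z) ∣ Nat.card (MulAut T) :=
    Subgroup.card_dvd_of_injective _ (conjNormal_injective T hcent)
  rw [Nat.card_congr (MulAut.congr e).toEquiv] at h1
  rw [← Subgroup.card_mul_index Z]
  exact Nat.mul_dvd_mul hZ2 h1

theorem aut_psl {F : Type u} [Field F] [Fintype F] {p f : ℕ} (hp : p.Prime) (hf : 1 ≤ f) (hF : Fintype.card F = p ^ f)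
    (h4 : 4 ≤ p ^ f) :
    Nat.card (MulAut (Matrix.ProjectiveSpecialLinearGroup (Fin 2) F)) = f * (p ^ f * ((p ^ f) ^ 2 - 1)) := by
  have := Fact.mk hp
  rw [S0813.result p f hf hF 2 le_rfl (fun _ => h4), if_pos rfl, one_mul, ClassicalGeometry.PSL2Basic.card_PGL2, hF]

theorem aut_l17 : Nat.card (MulAut (Matrix.ProjectiveSpecialLinearGroup (Fin 2) (ZMod 17))) = 4896 := by
  have : Fact (Nat.Prime 17) := ⟨by norm_num⟩
  rw [aut_psl (p := 17) (f := 1) (by norm_num) le_rfl (by rw [ZMod.card, pow_one]) (by norm_num)]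
  norm_num

theorem aut_l7 : Nat.card (MulAut (Matrix.ProjectiveSpecialLinearGroup (Fin 2) (ZMod 7))) = 336 := by
  have : Fact (Nat.Prime 7) := ⟨by norm_num⟩
  rw [aut_psl (p := 7) (f := 1) (by norm_num) le_rfl (by rw [ZMod.card, pow_one]) (by norm_num)]
  norm_num

variable {F : Type} [Field F] [Fintype F] {p f m : ℕ}

/-- a self-adjoint set is alternating (`q` odd) -/
theorem alt_of_sa (h2 : (2 : F) ≠ 0) {K : Subalgebra F (Matrix (Fin m ⊕ Fin m) (Fin m ⊕ Fin m) F)}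
    (hsa : IsSelfAdjointFor (sympForm m F) K) : ∀ k ∈ K, ∀ v, sympForm m F (k *ᵥ v) v = 0 := by
  intro k hk v
  have h1 : sympForm m F (k *ᵥ v) v = sympForm m F v (k *ᵥ v) := hsa k hk v v
  rw [ClassicalGeometry.SympBasic.sympForm_swap] at h1
  have h3 : 2 * sympForm m F v (k *ᵥ v) = 0 := by linear_combination -h1
  have h4 := (mul_eq_zero.1 h3).resolve_left h2
  rw [ClassicalGeometry.SympBasic.sympForm_swap, h4, neg_zero]

/-- **the factor containing elements of order `r8`** -/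
theorem struct_X (hp : p.Prime) (hchar : CharP F p) (hf : 1 ≤ f) (hF : Fintype.card F = p ^ f) (hodd : Odd (Fintype.card F))
    (h5 : 5 ≤ Fintype.card F)
    (h88 : ∀ (E : Type) [Field E] [Fintype E], Fintype.card E = Fintype.card F ^ 2 → Res88 E)
    (h24 : ∀ H : Subgroup (GL (Fin 4 ⊕ Fin 4) F), IsMaximalIn (spGL 4 F) H → InSymplecticResidualClass H → Res24 F H)
    {r : ℕ} (hr : PP p (f * 8) r) {X : Subgroup (GL (Fin 4 ⊕ Fin 4) F)} (hX : X ≤ spGL 4 F)
    (hne : X ≠ spGL 4 F) (hrX : r ∣ Nat.card X) :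
    (∃ j, j ∣ 2 ∧ Nat.card X = j * (Fintype.card F ^ 8 * ((Fintype.card F ^ 4 - 1) * (Fintype.card F ^ 8 - 1)))) ∨
    (Nat.card X ∣ 4 * (Fintype.card F ^ 4 * (Fintype.card F ^ 8 - 1)) ∧
      Fintype.card F ^ 4 * (Fintype.card F ^ 8 - 1) ∣ Nat.card X) ∨
    Nat.card X ≤ 16 * (Fintype.card F ^ 4 + 1) ∨ Nat.card X ≤ 20160 := by
  have hfin : Finite (GL (Fin 4 ⊕ Fin 4) F) := inferInstance
  have hpf : Fact p.Prime := ⟨hp⟩
  have h2F := two_ne hodd
  obtain ⟨M, hM, hXM⟩ := exists_max hX hne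
  have hdvd : r ∣ Nat.card M := hrX.trans (Subgroup.card_dvd_of_le hXM)
  have hle : Nat.card X ≤ Nat.card M := Nat.card_le_card_of_injective _ (Subgroup.inclusion_injective hXM)
  obtain ⟨y, hy, hyr, hy1⟩ := exists_elt hr.prime hdvd
  rcases classA hp hchar hf hF hodd hr h24 hM hy hyr hy1 with ⟨K, hK, hsa, hMK⟩ | ⟨P, hc, ⟨e⟩, -⟩
  swap
  · right; right; right
    have h1 := card_dvd (by norm_num) hM.1.le hc
    rw [Nat.card_congr (MulAut.congr e).toEquiv, aut_l17] at h1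
    exact hle.trans ((Nat.le_of_dvd (by norm_num) h1).trans (by norm_num))
  have halt := alt_of_sa h2F hsa
  set q := Fintype.card F with hq
  have hq1 : 1 < q := Fintype.one_lt_card
  -- the part over the field of order `q ^ 2`
  obtain ⟨E, iE, iE', iA, n, c, k1, k2, k3, k4, j, hj, hjc⟩ := norm_cd (m := 4) (s := 2) (by norm_num) (by norm_num) hK hsa halt
    hX (hXM.trans hMK)
  obtain rfl : n = 2 := by omega
  rw [← hq] at k2
  have hjle : j ≤ 2 := Nat.le_of_dvd (by norm_num) hj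
  have hEp : Fintype.card E = p ^ (2 * f) := by rw [k2, hF, ← pow_mul, mul_comm]
  have hEodd : Odd (Fintype.card E) := by rw [k2]; exact hodd.pow
  have hqq : 5 ≤ q ^ 2 := by nlinarith
  have hchE : CharP E p := charP_of_injective_algebraMap (algebraMap F E).injective p
  have hr' : PP p (2 * f * 4) r := by
    rw [show 2 * f * 4 = f * 8 by ring]; exact hr
  by_cases htop : X.comap c.Psi = spGL 2 E
  · left
    refine ⟨j, hj, ?_⟩
    rw [hjc, htop, card_sp, k2, Finset.prod_range_succ, Finset.prod_range_one]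
    have e1 : (q ^ 2) ^ 2 ^ 2 = q ^ 8 := by ring
    have e2 : (q ^ 2) ^ (2 * (0 + 1)) = q ^ 4 := by ring
    have e3 : (q ^ 2) ^ (2 * (1 + 1)) = q ^ 8 := by ring
    rw [e1, e2, e3]
  right
  have hrE : r ∣ Nat.card (X.comap c.Psi) := by
    rw [hjc] at hrX
    rcases hr.prime.dvd_mul.1 hrX with h | h
    · exfalso
      have h6 := Nat.le_of_dvd (by norm_num) (h.trans hj)
      have h7 := hr.lt (by omega)
      omega
    · exact h
  rcases list2 hp (by omega) hEp hEodd (by rw [k2]; exact hqq) (h88 E k2) hr' k4 htop hrE with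
    ⟨K', hK', hsa', halt', hXK'⟩ | h1
  swap
  · right; right
    rw [hjc]
    calc j * Nat.card (X.comap c.Psi) ≤ 2 * 10080 := Nat.mul_le_mul hjle h1
      _ = 20160 := by norm_num
  have hr'' : PP p (2 * (2 * (2 * f))) r := by
    rw [show 2 * (2 * (2 * f)) = f * 8 by ring]; exact hr
  rcases dD hEp (by omega) (by rw [k2]; omega) (by norm_num) hr'' hK' hsa' halt' k4 hXK' hrE with
    ⟨E', iE2, iE3, iA', c', l1, l2, l3⟩ | h1 | h1
  · left
    refine ⟨?_, ?_⟩
    · rw [hjc]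
      have h1 := norm_dvd (n := 1) (by norm_num) (by norm_num) (by norm_num) hK' hsa' halt' k4 hXK'
      rw [Finset.prod_range_one, k2] at h1
      have e1 : ((q ^ 2) ^ 2) ^ 1 ^ 2 = q ^ 4 := by ring
      have e3 : ((q ^ 2) ^ 2) ^ (2 * (0 + 1)) = q ^ 8 := by ring
      rw [e1, e3] at h1
      have h3 := Nat.mul_dvd_mul hj h1
      have e2 : 2 * (2 * (q ^ 4 * (q ^ 8 - 1))) = 4 * (q ^ 4 * (q ^ 8 - 1)) := by ring
      rwa [e2] at h3
    · have h1 : (spGL 1 E').map c'.Psi ≤ X.comap c.Psi := by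
        rintro _ ⟨A, hA, rfl⟩
        exact l3 A hA
      have h3 := Subgroup.card_dvd_of_le h1
      rw [c'.card_spGL, card_sp, l2, k2, Finset.prod_range_one] at h3
      have e1 : ((q ^ 2) ^ 2) ^ 1 ^ 2 = q ^ 4 := by ring
      have e2 : ((q ^ 2) ^ 2) ^ (2 * (0 + 1)) = q ^ 8 := by ring
      rw [e1, e2] at h3
      rw [hjc]
      exact h3.trans (Dvd.intro_left _ rfl)
  · right; left
    rw [hjc]
    have e1 : Fintype.card E ^ 2 = q ^ 4 := by rw [k2]; ring
    rw [e1] at h1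
    calc j * Nat.card (X.comap c.Psi) ≤ 2 * (2 * (4 * (q ^ 4 + 1))) := Nat.mul_le_mul hjle h1
      _ = 16 * (q ^ 4 + 1) := by ring
  · right; right
    rw [hjc]
    calc j * Nat.card (X.comap c.Psi) ≤ 2 * (2 * 120) := Nat.mul_le_mul hjle h1
      _ ≤ 20160 := by norm_num

end Cfsg.Agent.H920.Sp8
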