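import Cfsg.Agent.H920.Sp8.StX
import Cfsg.Agent.H920.Sp8.Gu4

/-!
# S3691, `PSp_8(q)`, `q` odd: the factor of order divisible by primitive primes of exponents 6 and 3
-/

set_option autoImplicit false
set_option linter.unusedSectionVars false

namespace Cfsg.Agent.H920.Sp8

open Cfsg Cfsg.Geo Matrix Module
open Cfsg.Agent.H884.El (PP)
open Cfsg.Agent.H248.Cov
open Cfsg.Agent.H262.El
open Cfsg.Agent.H402.Rg
open scoped MatrixGroups

variable {F : Type} [Field F] [Fintype F] {p f m : ℕ}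

/-- **the factor containing elements of orders `r6` and `r3`** -/
theorem struct_Y (hp : p.Prime) (hchar : CharP F p) (hf : 1 ≤ f) (hF : Fintype.card F = p ^ f) (hodd : Odd (Fintype.card F))
    (h24 : ∀ H : Subgroup (GL (Fin 4 ⊕ Fin 4) F), IsMaximalIn (spGL 4 F) H → InSymplecticResidualClass H → Res24 F H)
    {r s : ℕ} (hr : PP p (f * 6) r) (hs : PP p (f * 3) s) {Y : Subgroup (GL (Fin 4 ⊕ Fin 4) F)} (hY : Y ≤ spGL 4 F)
    (hne : Y ≠ spGL 4 F) (hrY : r ∣ Nat.card Y) (hsY : s ∣ Nat.card Y) :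
    (∃ W : Submodule F (Fin 4 ⊕ Fin 4 → F), W ≠ ⊥ ∧ finrank F W ≤ 2 ∧
      (finrank F W = 1 ∨ IsNondegenerateOn (sympForm 4 F) W) ∧ Y ≤ subspaceStabilizer W) ∨
    Nat.card Y ∣ 2 * (Fintype.card F ^ 6 * (Fintype.card F + 1) * (Fintype.card F ^ 2 - 1) * (Fintype.card F ^ 3 + 1) *
      (Fintype.card F ^ 4 - 1)) ∨
    Nat.card Y ∣ 2 * (3 * f * (Fintype.card F ^ 3 * (Fintype.card F ^ 6 - 1))) := by
  have hfin : Finite (GL (Fin 4 ⊕ Fin 4) F) := inferInstance
  have hpf : Fact p.Prime := ⟨hp⟩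
  have h2F := two_ne hodd
  obtain ⟨M, hM, hYM⟩ := exists_max hY hne
  have hdvd : r ∣ Nat.card M := hrY.trans (Subgroup.card_dvd_of_le hYM)
  have hdvs : s ∣ Nat.card M := hsY.trans (Subgroup.card_dvd_of_le hYM)
  obtain ⟨y, hy, hyr, hy1⟩ := exists_elt hr.prime hdvd
  obtain ⟨z, hz, hzs, hz1⟩ := exists_elt hs.prime hdvs
  have hι : Fintype.card (Fin 4 ⊕ Fin 4) = 8 := by simp
  have hod := od_of_pp hF hf (by norm_num) hr
  have hos := od_of_pp hF hf (by norm_num) hs
  have hrd := hod.lt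
  have hsd := hos.lt
  have hyS : y ∈ spGL 4 F := hM.1.le hy
  have hrF := cast_ne_zero_of_od hod
  have hfix := fixS_eq_two hod hι hyr hy1
  have hr6 : 6 ∣ r - 1 := (Dvd.intro_left f rfl).trans (hr.dvd_sub_one (by omega))
  have hs3 : 3 ∣ s - 1 := (Dvd.intro_left f rfl).trans (hs.dvd_sub_one (by omega))
  have hsodd : s ≠ 2 := by omega
  have hsod : Odd s := hs.prime.odd_of_ne_two hsodd
  have hne37 : ¬ (r = 7 ∧ s = 7) := by
    rintro ⟨e1, e2⟩
    have h1 := hr.ord
    have h2 := hs.ord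
    rw [e1] at h1
    rw [e2] at h2
    omega
  rcases geo hp hf hF hodd (by norm_num) hr hM hdvd with ⟨W, h1, h2, h3⟩ | ⟨W, h1, h2, h3, h4⟩ | ⟨K, h1, h2, h3⟩ |
    ⟨K, h1, h2, h3, h4⟩ | ⟨R, h1, h2, h3, h4⟩ | h
  · left
    have e1 : 2 * finrank F W ≤ 2 * 4 := Cfsg.Agent.H262.El.two_mul_finrank_le (fun u hu v hv => h2 u hu v hv)
    have e2 : W ≤ fixS y := le_fixS hod hyr (fun v hv => (Cfsg.Agent.H918.mem_subspaceStabilizer.1 (h3 hy) v).1 hv) (by omega)
    have e3 := Submodule.finrank_mono e2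
    have e4 : finrank F W ≠ 2 := by
      intro h5
      have e5 : W = fixS y := Submodule.eq_of_le_of_finrank_eq e2 (by omega)
      obtain ⟨w, hw, hw0⟩ := (Submodule.ne_bot_iff _).1 h1
      have e6 := nd_fixS hyS hrF hyr
      rw [← e5] at e6
      obtain ⟨⟨z, hz, hzw⟩, -⟩ := e6 w hw hw0
      exact hzw (h2 z hz w hw)
    have e5 : finrank F W ≠ 0 := fun h5 => h1 (Submodule.finrank_eq_zero.1 h5)
    exact ⟨W, h1, by omega, Or.inl (by omega), hYM.trans h3⟩
  · left
    have e2 : W ≤ fixS y := le_fixS hod hyr (fun v hv => (Cfsg.Agent.H918.mem_subspaceStabilizer.1 (h4 hy) v).1 hv) (by omega)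
    have e3 := Submodule.finrank_mono e2
    exact ⟨W, h1, by omega, Or.inr h2, hYM.trans h4⟩
  · exfalso
    refine Cfsg.Agent.H118.BS.no_quad_odd hyS (r := r) (j := 3) ?_ (by decide) (by norm_num) hyr hy1 h1 h2 (h3 hy)
    rw [Nat.card_eq_fintype_card, hF]
    exact Cfsg.Agent.H884.El.PP.of_pow hr hf
  · right; left
    refine (Subgroup.card_dvd_of_le (le_inf (hYM.trans h4) hY)).trans ?_
    rw [Gu.card_herm4 h2F h1 h2 h3, Nat.card_eq_fintype_card]
  · exfalso
    apply hne37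
    constructor
    · rcases symp_prime (k := 3) (by norm_num) h4 h2 h1 (by norm_num) (by rw [hι]; norm_num) h3 hr.prime hdvd with h | h | h
      · omega
      · have h5 : r ∣ Fintype.card F ^ 1 - 1 := by rwa [pow_one, ← Nat.card_eq_fintype_card]
        have := Nat.le_of_dvd one_pos ((hod.dvd_iff Fintype.card_pos 1).1 h5)
        omega
      · omega
    · rcases symp_prime (k := 3) (by norm_num) h4 h2 h1 (by norm_num) (by rw [hι]; norm_num) h3 hs.prime hdvs with h | h | h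
      · omega
      · have h5 : s ∣ Fintype.card F ^ 1 - 1 := by rwa [pow_one, ← Nat.card_eq_fintype_card]
        have := Nat.le_of_dvd one_pos ((hos.dvd_iff Fintype.card_pos 1).1 h5)
        omega
      · obtain ⟨k, hk⟩ := hsod
        omega
  · rcases res_rows hp hchar hf hF hodd le_rfl hr (h24 M hM h) hy hyr hy1 with ⟨P, hc, ⟨e⟩, k1, k2, k3⟩ | ⟨P, -, -, h5⟩ |
      ⟨-, P, hc, K, iK, iK', hK, ⟨e⟩⟩
    · exfalso
      apply hne37
      refine ⟨k3, ?_⟩
      have hzsc : z ∉ scalars (Fin 4 ⊕ Fin 4) F := by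
        intro h
        apply hz1
        refine eq_one_of_scalar h hs.prime hzs ?_
        intro h7
        have h9 := (hos.dvd_iff Fintype.card_pos 1).1 (by rwa [pow_one])
        have := Nat.le_of_dvd one_pos h9
        omega
      rcases aut7 hs.prime (dvd_aut hc e hz hs.prime hzs hzsc) with h4 | h4 | h4
      · omega
      · omega
      · exact h4
    · omega
    · right; right
      have h1 := (Subgroup.card_dvd_of_le hYM).trans (card_dvd (by norm_num) hM.1.le hc)
      have hKp : Fintype.card K = p ^ (3 * f) := by rw [hK, hF, ← pow_mul, mul_comm]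
      have h4 : 4 ≤ p ^ (3 * f) := by
        have h5 : 2 ^ (3 * 1) ≤ p ^ (3 * f) := (Nat.pow_le_pow_left hp.two_le _).trans
          (Nat.pow_le_pow_right hp.pos (by omega))
        norm_num at h5
        omega
      rw [Nat.card_congr (MulAut.congr e).toEquiv, aut_psl hp (by omega) hKp h4, ← hKp, hK] at h1
      have e1 : (Fintype.card F ^ 3) ^ 2 = Fintype.card F ^ 6 := by ring
      rwa [e1] at h1

end Cfsg.Agent.H920.Sp8
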